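import Mathlib

set_option autoImplicit false

namespace Cfsg.Agent.Lib.Helper5.PSL2Solv

open Subgroup

/-- Solvability of the subgroup generated by a pair is invariant under group isomorphisms. -/
theorem solv_pair_iff {G G' : Type*} [Group G] [Group G'] (φ : G ≃* G') (x y : G) :
    Group.IsSolvable ↥(closure ({x, y} : Set G)) ↔
      Group.IsSolvable ↥(closure ({φ x, φ y} : Set G')) := by
  have h1 : closure ({φ x, φ y} : Set G') = (closure ({x, y} : Set G)).map φ.toMonoidHom := by
    rw [MonoidHom.map_closure, Set.image_pair]; rfl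
  rw [h1]
  let e := (closure ({x, y} : Set G)).equivMapOfInjective φ.toMonoidHom φ.injective
  constructor
  · intro h
    exact Group.isSolvable_of_surjective (f := e.toMonoidHom) e.surjective
  · intro h
    exact Group.isSolvable_of_isSolvable_injective (f := e.toMonoidHom) e.injective

/-- The solubilizer count is invariant under group isomorphisms. -/
theorem card_solv_congr {G G' : Type*} [Group G] [Group G'] (φ : G ≃* G') (x : G) :
    Nat.card {y : G // Group.IsSolvable ↥(closure ({x, y} : Set G))} =
      Nat.card {y' : G' // Group.IsSolvable ↥(closure ({φ x, y'} : Set G'))} := by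
  apply Nat.card_congr
  exact Equiv.subtypeEquiv φ.toEquiv (fun y => solv_pair_iff φ x y)

/-- A subgroup of a solvable subgroup is solvable. -/
theorem solvable_of_le {G : Type*} [Group G] {H K : Subgroup G} (h : H ≤ K)
    (hK : Group.IsSolvable ↥K) : Group.IsSolvable ↥H :=
  Group.isSolvable_of_isSolvable_injective (f := Subgroup.inclusion h)
    (Subgroup.inclusion_injective h)

/-- A nontrivial solvable group has a nontrivial abelian normal subgroup. -/
theorem exists_abelian_normal (H : Type*) [Group H] [hs : Group.IsSolvable H] [Nontrivial H] :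
    ∃ A : Subgroup H, A.Normal ∧ A ≠ ⊥ ∧ ∀ a ∈ A, ∀ b ∈ A, a * b = b * a := by
  classical
  have hex : ∃ n, derivedSeries H n = ⊥ := (Group.isSolvable_def H).1 hs
  have h0 : Nat.find hex ≠ 0 := by
    intro h
    have := Nat.find_spec hex
    rw [h, derivedSeries_zero] at this
    exact top_ne_bot this
  obtain ⟨k, hk⟩ := Nat.exists_eq_succ_of_ne_zero h0
  refine ⟨derivedSeries H k, derivedSeries_normal H k, ?_, ?_⟩
  · intro h
    have := Nat.find_min' hex h
    omega
  · intro a ha b hb
    have h1 := Nat.find_spec hex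
    rw [hk, derivedSeries_succ, commutator_eq_bot_iff_le_centralizer] at h1
    have := h1 ha
    rw [mem_centralizer_iff] at this
    exact (this b hb).symm

/-- From solvability of `⟨x, y⟩` (nontrivial) extract an element `m ≠ 1` whose conjugates under
`x` and `y` commute with it. -/
theorem exists_commuting_conj {G : Type*} [Group G] (x y : G) (hx : x ≠ 1)
    (hs : Group.IsSolvable ↥(closure ({x, y} : Set G))) :
    ∃ m : G, m ≠ 1 ∧ Commute (x * m * x⁻¹) m ∧ Commute (y * m * y⁻¹) m := by
  classical
  set H := closure ({x, y} : Set G) with hH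
  have hxH : x ∈ H := subset_closure (by simp)
  have hyH : y ∈ H := subset_closure (by simp)
  have : Nontrivial ↥H := by
    refine ⟨⟨⟨x, hxH⟩, 1, ?_⟩⟩
    intro h
    exact hx (congrArg Subtype.val h)
  obtain ⟨A, hAn, hAne, hAc⟩ := exists_abelian_normal ↥H
  obtain ⟨⟨⟨m, hmH⟩, hmA⟩, hm1⟩ := (Subgroup.ne_bot_iff_exists_ne_one).1 hAne
  refine ⟨m, ?_, ?_, ?_⟩
  · intro h
    apply hm1
    ext
    simpa using h
  · have h1 : (⟨x, hxH⟩ : ↥H) * ⟨m, hmH⟩ * (⟨x, hxH⟩ : ↥H)⁻¹ ∈ A := hAn.conj_mem _ hmA _
    have := hAc _ h1 _ hmA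
    have := congrArg Subtype.val this
    show _ * _ = _ * _
    simpa using this
  · have h1 : (⟨y, hyH⟩ : ↥H) * ⟨m, hmH⟩ * (⟨y, hyH⟩ : ↥H)⁻¹ ∈ A := hAn.conj_mem _ hmA _
    have := hAc _ h1 _ hmA
    have := congrArg Subtype.val this
    show _ * _ = _ * _
    simpa using this

/-- A group generated by `x, y` with `x` inverting `y` is solvable. -/
theorem solvable_of_gen_inverts {G : Type*} [Group G] (x y : G)
    (hgen : closure ({x, y} : Set G) = ⊤) (h : x * y * x⁻¹ = y⁻¹) : Group.IsSolvable G := by
  classical
  have h' : x⁻¹ * y * x = y⁻¹ := by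
    have : y = x⁻¹ * y⁻¹ * x := by rw [← h]; group
    calc x⁻¹ * y * x = (x⁻¹ * y⁻¹ * x)⁻¹ := by group
      _ = y⁻¹ := by rw [← this]
  have hxN : x ∈ normalizer (zpowers y : Set G) := by
    rw [mem_normalizer_iff]
    intro n
    constructor
    · rintro ⟨k, rfl⟩
      refine ⟨-k, ?_⟩
      show y ^ (-k) = x * y ^ k * x⁻¹
      rw [← conj_zpow, h, inv_zpow, zpow_neg]
    · rintro ⟨k, hk⟩
      refine ⟨-k, ?_⟩
      have hk' : x * n * x⁻¹ = y ^ k := hk.symm
      have : n = x⁻¹ * y ^ k * x := by rw [← hk']; group
      show y ^ (-k) = n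
      rw [this]
      have h2 : x⁻¹ * y ^ k * x = (x⁻¹ * y * x) ^ k := by
        have := conj_zpow (a := x⁻¹) (b := y) (i := k)
        rw [inv_inv] at this
        exact this.symm
      rw [h2, h', inv_zpow, zpow_neg]
  have hyN : y ∈ normalizer (zpowers y : Set G) :=
    le_normalizer (mem_zpowers y)
  have hN : normalizer (zpowers y : Set G) = ⊤ := by
    rw [eq_top_iff, ← hgen, closure_le]
    intro g hg
    rcases hg with rfl | rfl
    · exact hxN
    · exact hyN
  have hZn : (zpowers y).Normal := normalizer_eq_top_iff.1 hN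
  -- the quotient is generated by the image of x
  have hq : ∀ a : G ⧸ zpowers y, a ∈ zpowers ((QuotientGroup.mk' (zpowers y)) x) := by
    intro a
    obtain ⟨g, rfl⟩ := QuotientGroup.mk'_surjective (zpowers y) a
    have hg : g ∈ closure ({x, y} : Set G) := by rw [hgen]; trivial
    have : (QuotientGroup.mk' (zpowers y)) g ∈
        (closure ({x, y} : Set G)).map (QuotientGroup.mk' (zpowers y)) := mem_map_of_mem _ hg
    rw [MonoidHom.map_closure, Set.image_pair] at this
    have hy1 : (QuotientGroup.mk' (zpowers y)) y = 1 := by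
      rw [QuotientGroup.mk'_apply, QuotientGroup.eq_one_iff]; exact mem_zpowers y
    rw [hy1] at this
    have hle : closure ({(QuotientGroup.mk' (zpowers y)) x, 1} : Set (G ⧸ zpowers y)) ≤
        zpowers ((QuotientGroup.mk' (zpowers y)) x) := by
      rw [closure_le]
      intro z hz
      rcases hz with rfl | rfl
      · exact mem_zpowers _
      · exact one_mem _
    exact hle this
  have hcomm : ∀ a b : G ⧸ zpowers y, a * b = b * a := by
    intro a b
    obtain ⟨i, hi⟩ := hq a
    obtain ⟨j, hj⟩ := hq b
    rw [← hi, ← hj]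
    show _ ^ i * _ ^ j = _ ^ j * _ ^ i
    rw [← zpow_add, ← zpow_add, add_comm]
  have : Group.IsSolvable (G ⧸ zpowers y) := Group.isSolvable_of_comm hcomm
  have : Group.IsSolvable ↥(zpowers y) := by
    apply Group.isSolvable_of_comm
    rintro ⟨a, i, rfl⟩ ⟨b, j, rfl⟩
    ext
    show y ^ i * y ^ j = y ^ j * y ^ i
    rw [← zpow_add, ← zpow_add, add_comm]
  apply Group.isSolvable_of_ker_le_range (zpowers y).subtype (QuotientGroup.mk' (zpowers y))
  rw [QuotientGroup.ker_mk']
  intro g hg
  exact ⟨⟨g, hg⟩, rfl⟩

/-- If `x` inverts `y` then `⟨x, y⟩` is solvable. -/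
theorem solvable_pair_of_inverts {G : Type*} [Group G] (x y : G) (h : x * y * x⁻¹ = y⁻¹) :
    Group.IsSolvable ↥(closure ({x, y} : Set G)) := by
  classical
  set H := closure ({x, y} : Set G) with hH
  have hxH : x ∈ H := subset_closure (by simp)
  have hyH : y ∈ H := subset_closure (by simp)
  apply solvable_of_gen_inverts (⟨x, hxH⟩ : ↥H) (⟨y, hyH⟩ : ↥H)
  · have := Subgroup.closure_closure_coe_preimage (k := ({x, y} : Set G))
    convert this using 2
    ext ⟨g, hg⟩
    simp only [Set.mem_insert_iff, Set.mem_singleton_iff, Set.mem_preimage, Subtype.mk.injEq]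
  · ext
    simpa using h

/-- Commuting generators give a solvable subgroup. -/
theorem solvable_pair_of_commute {G : Type*} [Group G] (x y : G) (h : Commute x y) :
    Group.IsSolvable ↥(closure ({x, y} : Set G)) := by
  have hc : ∀ a ∈ closure ({x, y} : Set G), ∀ b ∈ closure ({x, y} : Set G), a * b = b * a := by
    have hle : closure ({x, y} : Set G) ≤ centralizer (closure ({x, y} : Set G) : Set G) := by
      rw [closure_le]
      intro g hg
      rw [SetLike.mem_coe, mem_centralizer_iff]
      intro b hb
      have hle2 : closure ({x, y} : Set G) ≤ centralizer ({g} : Set G) := by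
        rw [closure_le]
        intro z hz
        rw [SetLike.mem_coe, mem_centralizer_iff]
        intro w hw
        rw [Set.mem_singleton_iff] at hw
        subst hw
        rcases hg with rfl | rfl <;> rcases hz with rfl | rfl
        · rfl
        · exact h.eq
        · exact h.eq.symm
        · rfl
      have := hle2 hb
      rw [mem_centralizer_iff] at this
      exact (this g rfl).symm
    intro a ha b hb
    have := hle ha
    rw [mem_centralizer_iff] at this
    exact (this b hb).symm
  apply Group.isSolvable_of_comm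
  rintro ⟨a, ha⟩ ⟨b, hb⟩
  ext
  exact hc a ha b hb

end Cfsg.Agent.Lib.Helper5.PSL2Solv
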