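import Mathlib
import Cfsg.Agent.Lib.Helper5.PSL2Solv.Gen

set_option autoImplicit false
set_option linter.unusedSimpArgs false
set_option linter.unnecessarySeqFocus false
set_option linter.unreachableTactic false

namespace Cfsg.Agent.Lib.Helper5.PSL2Solv

open Matrix

variable {F : Type*} [Field F]

/-- The element of `SL₂(F)` with the given entries. -/
def mk2 (a b c d : F) (h : a * d - b * c = 1) : Matrix.SpecialLinearGroup (Fin 2) F :=
  ⟨!![a, b; c, d], by rw [Matrix.det_fin_two_of]; exact h⟩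

theorem mk2_inj {a b c d a' b' c' d' : F} {h : a * d - b * c = 1} {h' : a' * d' - b' * c' = 1} :
    mk2 a b c d h = mk2 a' b' c' d' h' ↔ a = a' ∧ b = b' ∧ c = c' ∧ d = d' := by
  constructor
  · intro e
    have e' := congrArg (fun g : Matrix.SpecialLinearGroup (Fin 2) F =>
      (g : Matrix (Fin 2) (Fin 2) F)) e
    simp only [mk2] at e'
    refine ⟨?_, ?_, ?_, ?_⟩
    · simpa using congrFun (congrFun e' 0) 0
    · simpa using congrFun (congrFun e' 0) 1
    · simpa using congrFun (congrFun e' 1) 0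
    · simpa using congrFun (congrFun e' 1) 1
  · rintro ⟨rfl, rfl, rfl, rfl⟩
    rfl

theorem exists_mk2 (g : Matrix.SpecialLinearGroup (Fin 2) F) :
    ∃ (a b c d : F) (h : a * d - b * c = 1), g = mk2 a b c d h := by
  refine ⟨g 0 0, g 0 1, g 1 0, g 1 1, ?_, ?_⟩
  · have := g.det_coe
    rw [Matrix.det_fin_two] at this
    exact this
  · apply Matrix.SpecialLinearGroup.ext
    intro i j
    fin_cases i <;> fin_cases j <;> rfl

theorem mk2_mul (a b c d a' b' c' d' : F) (h : a * d - b * c = 1) (h' : a' * d' - b' * c' = 1) :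
    mk2 a b c d h * mk2 a' b' c' d' h' =
      mk2 (a * a' + b * c') (a * b' + b * d') (c * a' + d * c') (c * b' + d * d')
        (by linear_combination (a' * d' - b' * c') * h + h') := by
  apply Subtype.ext
  show !![a, b; c, d] * !![a', b'; c', d'] = !![_, _; _, _]
  rw [Matrix.mul_fin_two]

theorem mk2_inv (a b c d : F) (h : a * d - b * c = 1) :
    (mk2 a b c d h)⁻¹ = mk2 d (-b) (-c) a (by linear_combination h) := by
  apply Subtype.ext
  show Matrix.adjugate !![a, b; c, d] = !![_, _; _, _]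
  rw [Matrix.adjugate_fin_two_of]

theorem mk2_one : (1 : Matrix.SpecialLinearGroup (Fin 2) F) = mk2 1 0 0 1 (by ring) := by
  apply Matrix.SpecialLinearGroup.ext
  intro i j
  fin_cases i <;> fin_cases j <;> simp [mk2]

theorem sq_eq_zero2 {a : F} (h : a * a = 0) : a = 0 := mul_self_eq_zero.1 h

@[simp] theorem mk2_00 (a b c d : F) (h : a * d - b * c = 1) :
    (mk2 a b c d h : Matrix (Fin 2) (Fin 2) F) 0 0 = a := rfl
@[simp] theorem mk2_01 (a b c d : F) (h : a * d - b * c = 1) :
    (mk2 a b c d h : Matrix (Fin 2) (Fin 2) F) 0 1 = b := rfl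
@[simp] theorem mk2_10 (a b c d : F) (h : a * d - b * c = 1) :
    (mk2 a b c d h : Matrix (Fin 2) (Fin 2) F) 1 0 = c := rfl
@[simp] theorem mk2_11 (a b c d : F) (h : a * d - b * c = 1) :
    (mk2 a b c d h : Matrix (Fin 2) (Fin 2) F) 1 1 = d := rfl

/-- The upper triangular (Borel) subgroup of `SL₂(F)`. -/
def borel (F : Type*) [Field F] : Subgroup (Matrix.SpecialLinearGroup (Fin 2) F) where
  carrier := {g | (g : Matrix (Fin 2) (Fin 2) F) 1 0 = 0}
  one_mem' := by
    show ((1 : Matrix.SpecialLinearGroup (Fin 2) F) : Matrix (Fin 2) (Fin 2) F) 1 0 = 0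
    rw [mk2_one]; rfl
  mul_mem' := by
    intro g h hg hk
    obtain ⟨a, b, c, d, h1, rfl⟩ := exists_mk2 g
    obtain ⟨a', b', c', d', h2, rfl⟩ := exists_mk2 h
    simp only [Set.mem_ofPred_eq, mk2_10] at hg hk
    subst hg hk
    simp only [Set.mem_ofPred_eq, mk2_mul, mk2_10]
    ring
  inv_mem' := by
    intro g hg
    obtain ⟨a, b, c, d, h1, rfl⟩ := exists_mk2 g
    simp only [Set.mem_ofPred_eq, mk2_10] at hg
    subst hg
    simp only [Set.mem_ofPred_eq, mk2_inv, mk2_10]
    ring

theorem mk2_mem_borel {a b c d : F} {h : a * d - b * c = 1} :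
    mk2 a b c d h ∈ borel F ↔ c = 0 := Iff.rfl

/-- The diagonal character of the Borel subgroup. -/
def borelChar (F : Type*) [Field F] : ↥(borel F) →* Fˣ where
  toFun g := ⟨(g.1 : Matrix (Fin 2) (Fin 2) F) 0 0, (g.1 : Matrix (Fin 2) (Fin 2) F) 1 1, by
      obtain ⟨g, hg⟩ := g
      obtain ⟨a, b, c, d, h1, rfl⟩ := exists_mk2 g
      have hc : c = 0 := hg
      subst hc
      simp only [mk2_00, mk2_11]
      linear_combination h1, by
      obtain ⟨g, hg⟩ := g
      obtain ⟨a, b, c, d, h1, rfl⟩ := exists_mk2 g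
      have hc : c = 0 := hg
      subst hc
      simp only [mk2_00, mk2_11]
      linear_combination h1⟩
  map_one' := by
    ext
    show ((1 : Matrix.SpecialLinearGroup (Fin 2) F) : Matrix (Fin 2) (Fin 2) F) 0 0 = 1
    rw [mk2_one]; rfl
  map_mul' := by
    rintro ⟨g, hg⟩ ⟨h, hk⟩
    obtain ⟨a, b, c, d, h1, rfl⟩ := exists_mk2 g
    obtain ⟨a', b', c', d', h2, rfl⟩ := exists_mk2 h
    have hc : c = 0 := hg
    have hc' : c' = 0 := hk
    subst hc hc'
    ext
    show ((mk2 a b 0 d h1 * mk2 a' b' 0 d' h2 : Matrix.SpecialLinearGroup (Fin 2) F) :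
      Matrix (Fin 2) (Fin 2) F) 0 0 = a * a'
    rw [mk2_mul, mk2_00]
    ring

theorem borel_solvable (F : Type*) [Field F] : Group.IsSolvable ↥(borel F) := by
  have hker : Group.IsSolvable ↥(borelChar F).ker := by
    apply Group.isSolvable_of_comm
    rintro ⟨⟨g, hg⟩, hgk⟩ ⟨⟨h, hk⟩, hhk⟩
    obtain ⟨a, b, c, d, h1, rfl⟩ := exists_mk2 g
    obtain ⟨a', b', c', d', h2, rfl⟩ := exists_mk2 h
    have hc : c = 0 := hg
    have hc' : c' = 0 := hk
    subst hc hc'
    have ha : a = 1 := by
      have := congrArg Units.val ((MonoidHom.mem_ker).1 hgk)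
      exact this
    have ha' : a' = 1 := by
      have := congrArg Units.val ((MonoidHom.mem_ker).1 hhk)
      exact this
    subst ha ha'
    have hd : d = 1 := by linear_combination h1
    have hd' : d' = 1 := by linear_combination h2
    subst hd hd'
    apply Subtype.ext
    apply Subtype.ext
    show mk2 1 b 0 1 h1 * mk2 1 b' 0 1 h2 = mk2 1 b' 0 1 h2 * mk2 1 b 0 1 h1
    rw [mk2_mul, mk2_mul, mk2_inj]
    refine ⟨by ring, by ring, by ring, by ring⟩
  have hF : Group.IsSolvable Fˣ := Group.isSolvable_of_comm (fun a b => mul_comm a b)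
  apply Group.isSolvable_of_ker_le_range (borelChar F).ker.subtype (borelChar F)
  intro g hg
  exact ⟨⟨g, hg⟩, rfl⟩

/-- Two upper triangular elements generate a solvable subgroup. -/
theorem solvable_pair_of_upper {x y : Matrix.SpecialLinearGroup (Fin 2) F}
    (hx : x ∈ borel F) (hy : y ∈ borel F) :
    Group.IsSolvable ↥(Subgroup.closure ({x, y} : Set (Matrix.SpecialLinearGroup (Fin 2) F))) := by
  apply solvable_of_le (K := borel F) _ (borel_solvable F)
  rw [Subgroup.closure_le]
  intro g hg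
  rcases hg with rfl | rfl
  · exact hx
  · exact hy

section char2

variable [CharP F 2]

/-- Simp bundle for reducing numerals in characteristic two. -/
theorem c2 : ((2:F) = 0 ∧ (3:F) = 1 ∧ (4:F) = 0 ∧ (5:F) = 1 ∧ (6:F) = 0 ∧ (7:F) = 1 ∧ (8:F) = 0) ∧
    (∀ a : F, -a = a) ∧ (∀ a : F, a * 0 = 0) ∧ (∀ a : F, 0 * a = 0) ∧ (∀ a : F, a + 0 = a) ∧
    (∀ a : F, 0 + a = a) ∧ (∀ a : F, a * 1 = a) ∧ (∀ a b : F, a - b = a + b) := by
  have h2 : (2:F) = 0 := CharTwo.two_eq_zero
  refine ⟨⟨h2, ?_, ?_, ?_, ?_, ?_, ?_⟩, fun a => CharTwo.neg_eq a, mul_zero, zero_mul, add_zero,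
    zero_add, mul_one, fun a b => CharTwo.sub_eq_add a b⟩
  · linear_combination h2
  · linear_combination 2 * h2
  · linear_combination 2 * h2
  · linear_combination 3 * h2
  · linear_combination 3 * h2
  · linear_combination 4 * h2

theorem add_eq_zero2 {a b : F} (h : a + b = 0) : a = b := by
  have := CharTwo.add_eq_zero (a := a) (b := b)
  exact this.1 h

/-- Semisimple case: a commuting element with the same nonzero trace is `m` or `m⁻¹`. -/
theorem comm_same_trace {a b c d p q r s : F} (hn : a * d - b * c = 1) (hm : p * s - q * r = 1)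
    (hcomm : Commute (mk2 a b c d hn) (mk2 p q r s hm)) (htr : a + d = p + s)
    (hτ : p + s ≠ 0) :
    mk2 a b c d hn = mk2 p q r s hm ∨ mk2 a b c d hn = (mk2 p q r s hm)⁻¹ := by
  have e := hcomm.eq
  rw [mk2_mul, mk2_mul, mk2_inj] at e
  obtain ⟨e1, e2, e3, e4⟩ := e
  have hb : b = q := by
    have : (p + s) * (b + q) = 0 := by
      linear_combination (norm := (ring_nf <;> simp only [c2] <;> ring_nf)) e2 + q * htr
    rcases mul_eq_zero.1 this with h | h
    · exact absurd h hτ
    · exact add_eq_zero2 h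
  have hc : c = r := by
    have : (p + s) * (c + r) = 0 := by
      linear_combination (norm := (ring_nf <;> simp only [c2] <;> ring_nf)) e3 + r * htr
    rcases mul_eq_zero.1 this with h | h
    · exact absurd h hτ
    · exact add_eq_zero2 h
  subst hb hc
  have hprod : (a + p) * (a + s) = 0 := by
    linear_combination (norm := (ring_nf <;> simp only [c2] <;> ring_nf)) hn + hm + a * htr
  rcases mul_eq_zero.1 hprod with h | h
  · left
    have ha : a = p := add_eq_zero2 h
    have hd : d = s := by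
      have : d + s = 0 := by
        linear_combination (norm := (ring_nf <;> simp only [c2] <;> ring_nf)) htr - h
      exact add_eq_zero2 this
    rw [mk2_inj]; exact ⟨ha, rfl, rfl, hd⟩
  · right
    have ha : a = s := add_eq_zero2 h
    have hd : d = p := by
      have : d + p = 0 := by
        linear_combination (norm := (ring_nf <;> simp only [c2] <;> ring_nf)) htr - h
      exact add_eq_zero2 this
    rw [mk2_inv, mk2_inj]
    refine ⟨ha, ?_, ?_, hd⟩
    · simp only [c2]
    · simp only [c2]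

/-- Unipotent case: if the conjugate `h m h⁻¹` of a unipotent `m` commutes with `m`, then `h`
preserves the fixed line of `m`; here in the form of one polynomial identity. -/
theorem unip_kappa {a b c d p q r : F} (hh : a * d - b * c = 1) (hm : p * p - q * r = 1)
    (hcomm : Commute (mk2 a b c d hh * mk2 p q r p hm * (mk2 a b c d hh)⁻¹) (mk2 p q r p hm)) :
    c * q + (a + d) * (p + 1) + b * r = 0 := by
  have e := hcomm.eq
  simp only [mk2_mul, mk2_inv, mk2_inj] at e
  obtain ⟨e1, e2, e3, e4⟩ := e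
  have : (c * q + (a + d) * (p + 1) + b * r) * (c * q + (a + d) * (p + 1) + b * r) = 0 := by
    linear_combination (norm := (ring_nf <;> simp only [c2] <;> ring_nf)) e1 + (a ^ 2 + d ^ 2) * hm
  exact sq_eq_zero2 this

/-- In characteristic two a trace-zero element of `SL₂` has equal diagonal entries. -/
theorem diag_eq_of_trace_zero {p s : F} (h : p + s = 0) : p = s := add_eq_zero2 h

/-- The Weyl element (it has determinant one in characteristic two). -/
def wElt (F : Type*) [Field F] [CharP F 2] : Matrix.SpecialLinearGroup (Fin 2) F :=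
  mk2 0 1 1 0 (by rw [zero_mul, one_mul, zero_sub]; exact CharTwo.neg_eq 1)

theorem wElt_conj (a b c d : F) (h : a * d - b * c = 1) :
    wElt F * mk2 a b c d h * (wElt F)⁻¹ = mk2 d c b a (by linear_combination h) := by
  unfold wElt
  simp only [mk2_mul, mk2_inv, mk2_inj]
  refine ⟨?_, ?_, ?_, ?_⟩ <;> (ring_nf <;> simp only [c2] <;> ring_nf)

/-- Two lower triangular elements generate a solvable subgroup. -/
theorem solvable_pair_of_lower {a c d a' c' d' : F} (h : a * d - 0 * c = 1)
    (h' : a' * d' - 0 * c' = 1) :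
    Group.IsSolvable ↥(Subgroup.closure
      ({mk2 a 0 c d h, mk2 a' 0 c' d' h'} : Set (Matrix.SpecialLinearGroup (Fin 2) F))) := by
  rw [solv_pair_iff (MulAut.conj (wElt F))]
  rw [MulAut.conj_apply, MulAut.conj_apply, wElt_conj, wElt_conj]
  apply solvable_pair_of_upper
  · exact mk2_mem_borel.2 rfl
  · exact mk2_mem_borel.2 rfl

/-- Semisimple case, group-level form. -/
theorem conj_eq_or_inv (h m : Matrix.SpecialLinearGroup (Fin 2) F)
    (hτ : (m : Matrix (Fin 2) (Fin 2) F) 0 0 + (m : Matrix (Fin 2) (Fin 2) F) 1 1 ≠ 0)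
    (hc : Commute (h * m * h⁻¹) m) : h * m * h⁻¹ = m ∨ h * m * h⁻¹ = m⁻¹ := by
  obtain ⟨a, b, c, d, hh, rfl⟩ := exists_mk2 h
  obtain ⟨p, q, r, s, hm, rfl⟩ := exists_mk2 m
  simp only [mk2_00, mk2_11] at hτ
  have e : mk2 a b c d hh * mk2 p q r s hm * (mk2 a b c d hh)⁻¹ =
      mk2 ((a * p + b * r) * d + (a * q + b * s) * -c) ((a * p + b * r) * -b + (a * q + b * s) * a)
        ((c * p + d * r) * d + (c * q + d * s) * -c) ((c * p + d * r) * -b + (c * q + d * s) * a)
        (by linear_combination (p * s - q * r) * (a * d - b * c + 1) * hh + hm) := by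
    simp only [mk2_mul, mk2_inv]
  rw [e] at hc ⊢
  apply comm_same_trace _ hm hc _ hτ
  linear_combination (p + s) * hh

end char2

end Cfsg.Agent.Lib.Helper5.PSL2Solv
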