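import Mathlib
import Cfsg.Agent.Lib.Helper5.PSL2Solv.Mat

set_option autoImplicit false
set_option linter.unusedSimpArgs false
set_option linter.unnecessarySeqFocus false
set_option linter.unreachableTactic false

namespace Cfsg.Agent.Lib.Helper5.PSL2Solv

open Matrix Subgroup

variable {F : Type*} [Field F] [CharP F 2]

/-- The standard transvection. -/
def uOne (F : Type*) [Field F] : Matrix.SpecialLinearGroup (Fin 2) F := mk2 1 1 0 1 (by ring)

omit [CharP F 2] in
theorem uOne_ne_one : uOne F ≠ 1 := by
  rw [mk2_one, uOne, Ne, mk2_inj]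
  rintro ⟨-, h, -, -⟩
  exact one_ne_zero h

theorem invol_solv_of {a b c d : F} (h : a * d - b * c = 1) (hc : c = 0 ∨ d = a + c ∨ d = a) :
    Group.IsSolvable ↥(closure ({uOne F, mk2 a b c d h} :
      Set (Matrix.SpecialLinearGroup (Fin 2) F))) := by
  rcases hc with hc | hc | hc
  · apply solvable_pair_of_upper
    · exact mk2_mem_borel.2 rfl
    · exact mk2_mem_borel.2 hc
  · subst hc
    apply solvable_pair_of_inverts
    simp only [uOne, mk2_mul, mk2_inv, mk2_inj]
    refine ⟨?_, ?_, ?_, ?_⟩ <;> (ring_nf <;> (try simp only [c2]) <;> (try ring_nf))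
  · subst hc
    have hinv : Group.IsSolvable ↥(closure ({uOne F, uOne F * mk2 d b c d h} :
        Set (Matrix.SpecialLinearGroup (Fin 2) F))) := by
      apply solvable_pair_of_inverts
      simp only [uOne, mk2_mul, mk2_inv, mk2_inj]
      refine ⟨?_, ?_, ?_, ?_⟩ <;> (ring_nf <;> (try simp only [c2]) <;> (try ring_nf))
    apply solvable_of_le _ hinv
    rw [closure_le]
    intro g hg
    rcases hg with rfl | rfl
    · exact subset_closure (by simp)
    · have h1 : uOne F ∈ closure ({uOne F, uOne F * mk2 d b c d h} :
          Set (Matrix.SpecialLinearGroup (Fin 2) F)) := subset_closure (by simp)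
      have h2 : uOne F * mk2 d b c d h ∈ closure ({uOne F, uOne F * mk2 d b c d h} :
          Set (Matrix.SpecialLinearGroup (Fin 2) F)) := subset_closure (by simp)
      have := mul_mem (inv_mem h1) h2
      rwa [inv_mul_cancel_left] at this

theorem invol_solv_only {a b c d : F} (h : a * d - b * c = 1)
    (hs : Group.IsSolvable ↥(closure ({uOne F, mk2 a b c d h} :
      Set (Matrix.SpecialLinearGroup (Fin 2) F)))) : c = 0 ∨ d = a + c ∨ d = a := by
  obtain ⟨m, hm1, hcx, hcy⟩ := exists_commuting_conj _ _ uOne_ne_one hs
  obtain ⟨p, q, r, s, hm, rfl⟩ := exists_mk2 m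
  by_cases hτ : p + s = 0
  · obtain rfl := diag_eq_of_trace_zero hτ
    have hm' : p * p - q * r = 1 := hm
    have hcx' : Commute (mk2 1 1 0 1 (by ring) * mk2 p q r p hm' * (mk2 1 1 0 1 (by ring))⁻¹)
        (mk2 p q r p hm') := hcx
    have kx := unip_kappa _ hm' hcx'
    have ky := unip_kappa h hm' hcy
    have hr : r = 0 := by
      linear_combination (norm := (ring_nf <;> (try simp only [c2]) <;> (try ring_nf))) kx
    subst hr
    have hp : p = 1 := by
      have : (p + 1) * (p + 1) = 0 := by
        linear_combination (norm := (ring_nf <;> (try simp only [c2]) <;> (try ring_nf))) hm'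
      have := sq_eq_zero2 this
      exact add_eq_zero2 this
    subst hp
    have hcq : c * q = 0 := by
      linear_combination (norm := (ring_nf <;> (try simp only [c2]) <;> (try ring_nf))) ky
    rcases mul_eq_zero.1 hcq with hc | hq
    · left; exact hc
    · exfalso
      apply hm1
      rw [mk2_one, mk2_inj]
      exact ⟨rfl, hq, rfl, rfl⟩
  · have hτ' : ((mk2 p q r s hm : Matrix.SpecialLinearGroup (Fin 2) F) :
        Matrix (Fin 2) (Fin 2) F) 0 0 + ((mk2 p q r s hm : Matrix.SpecialLinearGroup (Fin 2) F) :
        Matrix (Fin 2) (Fin 2) F) 1 1 ≠ 0 := by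
      simpa using hτ
    have hr : r = p + s := by
      rcases conj_eq_or_inv _ _ hτ' hcx with e | e
      · exfalso
        have e' := mul_inv_eq_iff_eq_mul.1 e
        simp only [uOne, mk2_mul, mk2_inj] at e'
        obtain ⟨e1, e2, e3, e4⟩ := e'
        apply hτ
        have hr : r = 0 := by linear_combination e1
        subst hr
        linear_combination (norm := (ring_nf <;> (try simp only [c2]) <;> (try ring_nf))) e2
      · have e' := mul_inv_eq_iff_eq_mul.1 e
        simp only [uOne, mk2_mul, mk2_inv, mk2_inj] at e'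
        obtain ⟨e1, e2, e3, e4⟩ := e'
        linear_combination (norm := (ring_nf <;> (try simp only [c2]) <;> (try ring_nf))) e1
    right
    rcases conj_eq_or_inv _ _ hτ' hcy with e | e
    · left
      have e' := mul_inv_eq_iff_eq_mul.1 e
      simp only [mk2_mul, mk2_inj] at e'
      obtain ⟨e1, e2, e3, e4⟩ := e'
      have : (p + s) * (d + a + c) = 0 := by
        subst hr
        linear_combination (norm := (ring_nf <;> (try simp only [c2]) <;> (try ring_nf))) e3
      rcases mul_eq_zero.1 this with h0 | h0
      · exact absurd h0 hτ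
      · have : d + (a + c) = 0 := by linear_combination h0
        exact add_eq_zero2 this
    · right
      have e' := mul_inv_eq_iff_eq_mul.1 e
      simp only [mk2_mul, mk2_inv, mk2_inj] at e'
      obtain ⟨e1, e2, e3, e4⟩ := e'
      have : (p + s) * (d + a) = 0 := by
        subst hr
        linear_combination (norm := (ring_nf <;> (try simp only [c2]) <;> (try ring_nf))) e3
      rcases mul_eq_zero.1 this with h0 | h0
      · exact absurd h0 hτ
      · exact add_eq_zero2 h0

theorem invol_solv_iff {a b c d : F} (h : a * d - b * c = 1) :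
    Group.IsSolvable ↥(closure ({uOne F, mk2 a b c d h} :
      Set (Matrix.SpecialLinearGroup (Fin 2) F))) ↔ (c = 0 ∨ d = a + c ∨ d = a) :=
  ⟨invol_solv_only h, invol_solv_of h⟩

end Cfsg.Agent.Lib.Helper5.PSL2Solv
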