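import Mathlib
import Cfsg.Agent.Lib.Helper5.PSL2Solv.Invol

set_option autoImplicit false
set_option linter.unusedSimpArgs false
set_option linter.unnecessarySeqFocus false
set_option linter.unreachableTactic false

namespace Cfsg.Agent.Lib.Helper5.PSL2Solv

open Matrix Subgroup

theorem ncard_range_inj {α β : Type*} (f : α → β) (hf : Function.Injective f) :
    (Set.range f).ncard = Nat.card α := by
  rw [← Nat.card_coe_set_eq, Nat.card_range_of_injective hf]

theorem ncard_union3 {β : Type*} [Finite β] (A B C : Set β) (hAB : Disjoint A B)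
    (hAC : Disjoint A C) (hBC : Disjoint B C) :
    (A ∪ B ∪ C).ncard = A.ncard + B.ncard + C.ncard := by
  rw [Set.ncard_union_eq (Set.disjoint_union_left.2 ⟨hAC, hBC⟩) (Set.toFinite _) (Set.toFinite _),
    Set.ncard_union_eq hAB (Set.toFinite _) (Set.toFinite _)]

variable {F : Type*} [Field F] [CharP F 2]

/-- Upper triangular elements. -/
def famUpper (F : Type*) [Field F] (z : Fˣ × F) : Matrix.SpecialLinearGroup (Fin 2) F :=
  mk2 (z.1 : F) z.2 0 ((z.1 : F)⁻¹) (by rw [mul_inv_cancel₀ (Units.ne_zero z.1)]; ring)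

/-- Elements inverted by the standard transvection (with nonzero lower-left entry). -/
def famRot (F : Type*) [Field F] [CharP F 2] (z : Fˣ × F) : Matrix.SpecialLinearGroup (Fin 2) F :=
  mk2 z.2 ((1 + z.2 * z.2 + z.2 * (z.1 : F)) / (z.1 : F)) (z.1 : F) (z.2 + (z.1 : F)) (by
    rw [div_mul_cancel₀ _ (Units.ne_zero z.1)]
    ring_nf <;> (try simp only [c2]) <;> (try ring_nf))

/-- Involutions with nonzero lower-left entry. -/
def famRefl (F : Type*) [Field F] [CharP F 2] (z : Fˣ × F) : Matrix.SpecialLinearGroup (Fin 2) F :=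
  mk2 z.2 ((1 + z.2 * z.2) / (z.1 : F)) (z.1 : F) z.2 (by
    rw [div_mul_cancel₀ _ (Units.ne_zero z.1)]
    ring_nf <;> (try simp only [c2]) <;> (try ring_nf))

omit [CharP F 2] in
theorem famUpper_inj : Function.Injective (famUpper F) := by
  rintro ⟨a, b⟩ ⟨a', b'⟩ h
  simp only [famUpper, mk2_inj] at h
  obtain ⟨h1, h2, -, -⟩ := h
  exact Prod.ext (Units.ext h1) h2

theorem famRot_inj : Function.Injective (famRot F) := by
  rintro ⟨c, a⟩ ⟨c', a'⟩ h
  simp only [famRot, mk2_inj] at h
  obtain ⟨h1, -, h3, -⟩ := h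
  exact Prod.ext (Units.ext h3) h1

theorem famRefl_inj : Function.Injective (famRefl F) := by
  rintro ⟨c, a⟩ ⟨c', a'⟩ h
  simp only [famRefl, mk2_inj] at h
  obtain ⟨h1, -, h3, -⟩ := h
  exact Prod.ext (Units.ext h3) h1

theorem invol_solv_set :
    {y : Matrix.SpecialLinearGroup (Fin 2) F | Group.IsSolvable ↥(closure ({uOne F, y} :
      Set (Matrix.SpecialLinearGroup (Fin 2) F)))} =
    Set.range (famUpper F) ∪ Set.range (famRot F) ∪ Set.range (famRefl F) := by
  ext y
  obtain ⟨a, b, c, d, h, rfl⟩ := exists_mk2 y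
  rw [Set.mem_ofPred_eq, invol_solv_iff]
  simp only [Set.mem_union, Set.mem_range, Prod.exists]
  constructor
  · intro hc
    by_cases hc0 : c = 0
    · left; left
      subst hc0
      have ha : a ≠ 0 := by
        rintro rfl
        rw [zero_mul, mul_zero, sub_zero] at h
        exact zero_ne_one h
      refine ⟨Units.mk0 a ha, b, ?_⟩
      show mk2 a b 0 a⁻¹ _ = mk2 a b 0 d h
      refine mk2_inj.2 ⟨rfl, rfl, rfl, ?_⟩
      have : a * d = 1 := by linear_combination h
      exact (eq_inv_of_mul_eq_one_right this).symm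
    · rcases hc with hc | hc | hc
      · exact absurd hc hc0
      · left; right
        subst hc
        refine ⟨Units.mk0 c hc0, a, ?_⟩
        show mk2 a ((1 + a * a + a * c) / c) c (a + c) _ = mk2 a b c (a + c) h
        refine mk2_inj.2 ⟨rfl, ?_, rfl, rfl⟩
        rw [div_eq_iff hc0]
        linear_combination (norm := (ring_nf <;> (try simp only [c2]) <;> (try ring_nf))) h
      · right
        subst hc
        refine ⟨Units.mk0 c hc0, d, ?_⟩
        show mk2 d ((1 + d * d) / c) c d _ = mk2 d b c d h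
        refine mk2_inj.2 ⟨rfl, ?_, rfl, rfl⟩
        rw [div_eq_iff hc0]
        linear_combination (norm := (ring_nf <;> (try simp only [c2]) <;> (try ring_nf))) h
  · rintro ((⟨a', b', e⟩ | ⟨c', a', e⟩) | ⟨c', a', e⟩)
    · simp only [famUpper, mk2_inj] at e
      left; exact e.2.2.1.symm
    · simp only [famRot, mk2_inj] at e
      right; left
      rw [← e.1, ← e.2.2.1, ← e.2.2.2]
    · simp only [famRefl, mk2_inj] at e
      right; right
      rw [← e.1, ← e.2.2.2]

theorem invol_count [Fintype F] :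
    Nat.card {y : Matrix.SpecialLinearGroup (Fin 2) F // Group.IsSolvable ↥(closure ({uOne F, y} :
      Set (Matrix.SpecialLinearGroup (Fin 2) F)))} =
    3 * Fintype.card F * (Fintype.card F - 1) := by
  classical
  have h0 : Nat.card {y : Matrix.SpecialLinearGroup (Fin 2) F // Group.IsSolvable
      ↥(closure ({uOne F, y} : Set (Matrix.SpecialLinearGroup (Fin 2) F)))} =
      ({y : Matrix.SpecialLinearGroup (Fin 2) F | Group.IsSolvable ↥(closure ({uOne F, y} :
      Set (Matrix.SpecialLinearGroup (Fin 2) F)))}).ncard := Nat.card_coe_set_eq _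
  rw [h0, invol_solv_set, ncard_union3, ncard_range_inj _ famUpper_inj,
    ncard_range_inj _ famRot_inj, ncard_range_inj _ famRefl_inj, Nat.card_prod,
    Nat.card_eq_fintype_card, Nat.card_eq_fintype_card, Fintype.card_units]
  · ring
  · rw [Set.disjoint_left]
    rintro y ⟨⟨a, b⟩, rfl⟩ ⟨⟨c', a'⟩, e⟩
    simp only [famUpper, famRot, mk2_inj] at e
    exact Units.ne_zero c' e.2.2.1
  · rw [Set.disjoint_left]
    rintro y ⟨⟨a, b⟩, rfl⟩ ⟨⟨c', a'⟩, e⟩
    simp only [famUpper, famRefl, mk2_inj] at e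
    exact Units.ne_zero c' e.2.2.1
  · rw [Set.disjoint_left]
    rintro y ⟨⟨c, a⟩, rfl⟩ ⟨⟨c', a'⟩, e⟩
    simp only [famRot, famRefl, mk2_inj] at e
    obtain ⟨e1, -, e3, e4⟩ := e
    apply Units.ne_zero c
    have : (c : F) = (c' : F) := e3.symm
    rw [e1] at e4
    linear_combination (norm := (ring_nf <;> (try simp only [c2]) <;> (try ring_nf))) e4

end Cfsg.Agent.Lib.Helper5.PSL2Solv
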