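import Mathlib
import Cfsg.Agent.Lib.Helper5.PSL2Solv.InvolCount

set_option autoImplicit false
set_option linter.unusedSimpArgs false
set_option linter.unnecessarySeqFocus false
set_option linter.unreachableTactic false

namespace Cfsg.Agent.Lib.Helper5.PSL2Solv

open Matrix Subgroup

variable {F : Type*} [Field F] [CharP F 2]

theorem split_solv_of {l u : F} (hx : l * u - 0 * 0 = 1) {a b c d : F} (h : a * d - b * c = 1)
    (hc : c = 0 ∨ b = 0 ∨ (a = 0 ∧ d = 0)) :
    Group.IsSolvable ↥(closure ({mk2 l 0 0 u hx, mk2 a b c d h} :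
      Set (Matrix.SpecialLinearGroup (Fin 2) F))) := by
  rcases hc with hc | hc | ⟨ha, hd⟩
  · apply solvable_pair_of_upper
    · exact mk2_mem_borel.2 rfl
    · exact mk2_mem_borel.2 hc
  · subst hc
    exact solvable_pair_of_lower hx h
  · subst ha hd
    rw [Set.pair_comm]
    apply solvable_pair_of_inverts
    simp only [mk2_mul, mk2_inv, mk2_inj]
    refine ⟨?_, ?_, ?_, ?_⟩
    · linear_combination (norm := (ring_nf <;> (try simp only [c2]) <;> (try ring_nf))) u * h
    · ring
    · ring
    · linear_combination (norm := (ring_nf <;> (try simp only [c2]) <;> (try ring_nf))) l * h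

theorem split_solv_only {l u : F} (hx : l * u - 0 * 0 = 1) (hne : l ≠ u) {a b c d : F}
    (h : a * d - b * c = 1)
    (hs : Group.IsSolvable ↥(closure ({mk2 l 0 0 u hx, mk2 a b c d h} :
      Set (Matrix.SpecialLinearGroup (Fin 2) F)))) : c = 0 ∨ b = 0 ∨ (a = 0 ∧ d = 0) := by
  have hx1 : mk2 l 0 0 u hx ≠ 1 := by
    rw [mk2_one, Ne, mk2_inj]
    rintro ⟨h1, -, -, h4⟩
    exact hne (h1.trans h4.symm)
  have hlu : l + u ≠ 0 := fun h0 => hne (add_eq_zero2 h0)
  have hl0 : l ≠ 0 := by
    rintro rfl
    rw [zero_mul, mul_zero, sub_zero] at hx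
    exact zero_ne_one hx
  obtain ⟨m, hm1, hcx, hcy⟩ := exists_commuting_conj _ _ hx1 hs
  obtain ⟨p, q, r, s, hm, rfl⟩ := exists_mk2 m
  by_cases hτ : p + s = 0
  · obtain rfl := diag_eq_of_trace_zero hτ
    have hm' : p * p - q * r = 1 := hm
    have kx := unip_kappa hx hm' hcx
    have ky := unip_kappa h hm' hcy
    have hp : p = 1 := by
      have : (l + u) * (p + 1) = 0 := by linear_combination kx
      rcases mul_eq_zero.1 this with h0 | h0
      · exact absurd h0 hlu
      · exact add_eq_zero2 h0
    subst hp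
    have hqr : q * r = 0 := by linear_combination (-1 : F) * hm'
    have hk : c * q + b * r = 0 := by
      linear_combination (norm := (ring_nf <;> (try simp only [c2]) <;> (try ring_nf))) ky
    rcases mul_eq_zero.1 hqr with hq | hr
    · subst hq
      right; left
      have hr : r ≠ 0 := by
        rintro rfl
        apply hm1
        rw [mk2_one]
      have : b * r = 0 := by linear_combination hk
      rcases mul_eq_zero.1 this with h0 | h0
      · exact h0
      · exact absurd h0 hr
    · subst hr
      left
      have hq : q ≠ 0 := by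
        rintro rfl
        apply hm1
        rw [mk2_one]
      have : c * q = 0 := by linear_combination hk
      rcases mul_eq_zero.1 this with h0 | h0
      · exact h0
      · exact absurd h0 hq
  · have hτ' : ((mk2 p q r s hm : Matrix.SpecialLinearGroup (Fin 2) F) :
        Matrix (Fin 2) (Fin 2) F) 0 0 + ((mk2 p q r s hm : Matrix.SpecialLinearGroup (Fin 2) F) :
        Matrix (Fin 2) (Fin 2) F) 1 1 ≠ 0 := by
      simpa using hτ
    have hqr : q = 0 ∧ r = 0 := by
      rcases conj_eq_or_inv _ _ hτ' hcx with e | e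
      · have e' := mul_inv_eq_iff_eq_mul.1 e
        simp only [mk2_mul, mk2_inj] at e'
        obtain ⟨e1, e2, e3, e4⟩ := e'
        constructor
        · have : (l + u) * q = 0 := by
            linear_combination (norm := (ring_nf <;> (try simp only [c2]) <;> (try ring_nf))) e2
          rcases mul_eq_zero.1 this with h0 | h0
          · exact absurd h0 hlu
          · exact h0
        · have : (l + u) * r = 0 := by
            linear_combination (norm := (ring_nf <;> (try simp only [c2]) <;> (try ring_nf))) e3
          rcases mul_eq_zero.1 this with h0 | h0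
          · exact absurd h0 hlu
          · exact h0
      · exfalso
        have e' := mul_inv_eq_iff_eq_mul.1 e
        simp only [mk2_mul, mk2_inv, mk2_inj] at e'
        obtain ⟨e1, e2, e3, e4⟩ := e'
        have : l * (p + s) = 0 := by
          linear_combination (norm := (ring_nf <;> (try simp only [c2]) <;> (try ring_nf))) e1
        rcases mul_eq_zero.1 this with h0 | h0
        · exact hl0 h0
        · exact hτ h0
    obtain ⟨rfl, rfl⟩ := hqr
    right
    rcases conj_eq_or_inv _ _ hτ' hcy with e | e
    · left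
      have e' := mul_inv_eq_iff_eq_mul.1 e
      simp only [mk2_mul, mk2_inj] at e'
      obtain ⟨e1, e2, e3, e4⟩ := e'
      have : (p + s) * b = 0 := by
        linear_combination (norm := (ring_nf <;> (try simp only [c2]) <;> (try ring_nf))) e2
      rcases mul_eq_zero.1 this with h0 | h0
      · exact absurd h0 hτ
      · exact h0
    · right
      have e' := mul_inv_eq_iff_eq_mul.1 e
      simp only [mk2_mul, mk2_inv, mk2_inj] at e'
      obtain ⟨e1, e2, e3, e4⟩ := e'
      constructor
      · have : (p + s) * a = 0 := by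
          linear_combination (norm := (ring_nf <;> (try simp only [c2]) <;> (try ring_nf))) e1
        rcases mul_eq_zero.1 this with h0 | h0
        · exact absurd h0 hτ
        · exact h0
      · have : (p + s) * d = 0 := by
          linear_combination (norm := (ring_nf <;> (try simp only [c2]) <;> (try ring_nf))) e4
        rcases mul_eq_zero.1 this with h0 | h0
        · exact absurd h0 hτ
        · exact h0

theorem split_solv_iff {l u : F} (hx : l * u - 0 * 0 = 1) (hne : l ≠ u) {a b c d : F}
    (h : a * d - b * c = 1) :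
    Group.IsSolvable ↥(closure ({mk2 l 0 0 u hx, mk2 a b c d h} :
      Set (Matrix.SpecialLinearGroup (Fin 2) F))) ↔ (c = 0 ∨ b = 0 ∨ (a = 0 ∧ d = 0)) :=
  ⟨split_solv_only hx hne h, split_solv_of hx h⟩

/-- Lower triangular elements with nonzero lower-left entry. -/
def famLower (F : Type*) [Field F] (z : Fˣ × Fˣ) : Matrix.SpecialLinearGroup (Fin 2) F :=
  mk2 (z.1 : F) 0 (z.2 : F) ((z.1 : F)⁻¹) (by rw [mul_inv_cancel₀ (Units.ne_zero z.1)]; ring)

/-- Antidiagonal elements. -/
def famAnti (F : Type*) [Field F] [CharP F 2] (c : Fˣ) : Matrix.SpecialLinearGroup (Fin 2) F :=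
  mk2 0 ((c : F)⁻¹) (c : F) 0 (by
    rw [inv_mul_cancel₀ (Units.ne_zero c)]
    ring_nf <;> (try simp only [c2]) <;> (try ring_nf))

omit [CharP F 2] in
theorem famLower_inj : Function.Injective (famLower F) := by
  rintro ⟨a, c⟩ ⟨a', c'⟩ h
  simp only [famLower, mk2_inj] at h
  obtain ⟨h1, -, h3, -⟩ := h
  exact Prod.ext (Units.ext h1) (Units.ext h3)

theorem famAnti_inj : Function.Injective (famAnti F) := by
  intro c c' h
  simp only [famAnti, mk2_inj] at h
  exact Units.ext h.2.2.1

theorem split_solv_set {l u : F} (hx : l * u - 0 * 0 = 1) (hne : l ≠ u) :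
    {y : Matrix.SpecialLinearGroup (Fin 2) F | Group.IsSolvable ↥(closure ({mk2 l 0 0 u hx, y} :
      Set (Matrix.SpecialLinearGroup (Fin 2) F)))} =
    Set.range (famUpper F) ∪ Set.range (famLower F) ∪ Set.range (famAnti F) := by
  ext y
  obtain ⟨a, b, c, d, h, rfl⟩ := exists_mk2 y
  rw [Set.mem_ofPred_eq, split_solv_iff hx hne]
  simp only [Set.mem_union, Set.mem_range, Prod.exists]
  constructor
  · intro hc
    by_cases hc0 : c = 0
    · left; left
      subst hc0
      have ha : a ≠ 0 := by
        rintro rfl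
        rw [zero_mul, mul_zero, sub_zero] at h
        exact zero_ne_one h
      refine ⟨Units.mk0 a ha, b, ?_⟩
      show mk2 a b 0 a⁻¹ _ = mk2 a b 0 d h
      refine mk2_inj.2 ⟨rfl, rfl, rfl, ?_⟩
      have : a * d = 1 := by linear_combination h
      exact (eq_inv_of_mul_eq_one_right this).symm
    · rcases hc with hc | hc | ⟨ha, hd⟩
      · exact absurd hc hc0
      · left; right
        subst hc
        have ha : a ≠ 0 := by
          rintro rfl
          rw [zero_mul, zero_mul, sub_zero] at h
          exact zero_ne_one h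
        refine ⟨Units.mk0 a ha, Units.mk0 c hc0, ?_⟩
        show mk2 a 0 c a⁻¹ _ = mk2 a 0 c d h
        refine mk2_inj.2 ⟨rfl, rfl, rfl, ?_⟩
        have : a * d = 1 := by linear_combination h
        exact (eq_inv_of_mul_eq_one_right this).symm
      · right
        subst ha hd
        refine ⟨Units.mk0 c hc0, ?_⟩
        show mk2 0 c⁻¹ c 0 _ = mk2 0 b c 0 h
        refine mk2_inj.2 ⟨rfl, ?_, rfl, rfl⟩
        have : b * c = 1 := by
          linear_combination (norm := (ring_nf <;> (try simp only [c2]) <;> (try ring_nf))) h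
        exact (eq_inv_of_mul_eq_one_left this).symm
  · rintro ((⟨a', b', e⟩ | ⟨a', c', e⟩) | ⟨c', e⟩)
    · simp only [famUpper, mk2_inj] at e
      left; exact e.2.2.1.symm
    · simp only [famLower, mk2_inj] at e
      right; left; exact e.2.1.symm
    · simp only [famAnti, mk2_inj] at e
      right; right; exact ⟨e.1.symm, e.2.2.2.symm⟩

theorem split_count [Fintype F] {l u : F} (hx : l * u - 0 * 0 = 1) (hne : l ≠ u) :
    Nat.card {y : Matrix.SpecialLinearGroup (Fin 2) F // Group.IsSolvable
      ↥(closure ({mk2 l 0 0 u hx, y} : Set (Matrix.SpecialLinearGroup (Fin 2) F)))} =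
    2 * Fintype.card F * (Fintype.card F - 1) := by
  classical
  have h0 : Nat.card {y : Matrix.SpecialLinearGroup (Fin 2) F // Group.IsSolvable
      ↥(closure ({mk2 l 0 0 u hx, y} : Set (Matrix.SpecialLinearGroup (Fin 2) F)))} =
      ({y : Matrix.SpecialLinearGroup (Fin 2) F | Group.IsSolvable ↥(closure ({mk2 l 0 0 u hx, y} :
      Set (Matrix.SpecialLinearGroup (Fin 2) F)))}).ncard := Nat.card_coe_set_eq _
  obtain ⟨n, hn⟩ : ∃ n, Fintype.card F = n + 1 :=
    Nat.exists_eq_succ_of_ne_zero Fintype.card_ne_zero
  rw [h0, split_solv_set hx hne, ncard_union3, ncard_range_inj _ famUpper_inj,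
    ncard_range_inj _ famLower_inj, ncard_range_inj _ famAnti_inj, Nat.card_prod, Nat.card_prod,
    Nat.card_eq_fintype_card, Nat.card_eq_fintype_card, Fintype.card_units, hn]
  · simp only [Nat.add_sub_cancel]
    ring
  · rw [Set.disjoint_left]
    rintro y ⟨⟨a, b⟩, rfl⟩ ⟨⟨a', c'⟩, e⟩
    simp only [famUpper, famLower, mk2_inj] at e
    exact Units.ne_zero c' e.2.2.1
  · rw [Set.disjoint_left]
    rintro y ⟨⟨a, b⟩, rfl⟩ ⟨c', e⟩
    simp only [famUpper, famAnti, mk2_inj] at e
    exact Units.ne_zero c' e.2.2.1
  · rw [Set.disjoint_left]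
    rintro y ⟨⟨a, c⟩, rfl⟩ ⟨c', e⟩
    simp only [famLower, famAnti, mk2_inj] at e
    exact Units.ne_zero a e.1.symm

end Cfsg.Agent.Lib.Helper5.PSL2Solv
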