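import Mathlib
import Cfsg.Agent.Lib.Helper5.PSL2Solv.Split

set_option autoImplicit false
set_option linter.unusedSimpArgs false
set_option linter.unnecessarySeqFocus false
set_option linter.unreachableTactic false

namespace Cfsg.Agent.Lib.Helper5.PSL2Solv

open Matrix Subgroup

variable {F : Type*} [Field F] [CharP F 2]

/-- The companion matrix of `z² + t z + 1` (determinant one in characteristic two). -/
def comp (t : F) : Matrix.SpecialLinearGroup (Fin 2) F :=
  mk2 0 1 1 t (by rw [zero_mul, one_mul, zero_sub]; exact CharTwo.neg_eq 1)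

theorem comp_det (t : F) : (0 : F) * t - 1 * 1 = 1 := by
  rw [zero_mul, one_mul, zero_sub]; exact CharTwo.neg_eq 1

omit [CharP F 2] in
/-- Homogeneous form of irreducibility. -/
theorem irr_hom {t : F} (hirr : ∀ z : F, z * z + t * z + 1 ≠ 0) (z w : F) (hw : w ≠ 0) :
    z * z + t * z * w + w * w ≠ 0 := by
  intro h
  apply hirr (z / w)
  field_simp
  linear_combination h

theorem irr_t_ne {t : F} (hirr : ∀ z : F, z * z + t * z + 1 ≠ 0) : t ≠ 0 := by
  rintro rfl
  apply hirr 1
  linear_combination (norm := (ring_nf <;> (try simp only [c2]) <;> (try ring_nf)))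

theorem nonsplit_solv_of (t : F) {a b c d : F} (h : a * d - b * c = 1)
    (hc : (c = b ∧ d = a + t * b) ∨ (c = b + t * a ∧ d = a)) :
    Group.IsSolvable ↥(closure ({mk2 0 1 1 t (comp_det t), mk2 a b c d h} :
      Set (Matrix.SpecialLinearGroup (Fin 2) F))) := by
  rcases hc with ⟨hc, hd⟩ | ⟨hc, hd⟩
  · subst hc hd
    apply solvable_pair_of_commute
    show _ * _ = _ * _
    simp only [mk2_mul, mk2_inj]
    refine ⟨?_, ?_, ?_, ?_⟩ <;> ring
  · subst hc hd
    rw [Set.pair_comm]
    apply solvable_pair_of_inverts
    rw [mul_inv_eq_iff_eq_mul]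
    simp only [mk2_mul, mk2_inv, mk2_inj]
    refine ⟨?_, ?_, ?_, ?_⟩ <;> (ring_nf <;> (try simp only [c2]) <;> (try ring_nf))

theorem nonsplit_solv_only {t : F} (hirr : ∀ z : F, z * z + t * z + 1 ≠ 0) {a b c d : F}
    (h : a * d - b * c = 1)
    (hs : Group.IsSolvable ↥(closure ({mk2 0 1 1 t (comp_det t), mk2 a b c d h} :
      Set (Matrix.SpecialLinearGroup (Fin 2) F)))) :
    (c = b ∧ d = a + t * b) ∨ (c = b + t * a ∧ d = a) := by
  have ht := irr_t_ne hirr
  have hx1 : mk2 0 1 1 t (comp_det t) ≠ 1 := by
    rw [mk2_one, Ne, mk2_inj]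
    rintro ⟨h1, -, -, -⟩
    exact zero_ne_one h1
  obtain ⟨m, hm1, hcx, hcy⟩ := exists_commuting_conj _ _ hx1 hs
  obtain ⟨p, q, r, s, hm, rfl⟩ := exists_mk2 m
  by_cases hτ : p + s = 0
  · exfalso
    obtain rfl := diag_eq_of_trace_zero hτ
    have hm' : p * p - q * r = 1 := hm
    have kx := unip_kappa (comp_det t) hm' hcx
    by_cases hq : q = 0
    · subst hq
      have hp : p = 1 := by
        have : (p + 1) * (p + 1) = 0 := by
          linear_combination (norm := (ring_nf <;> (try simp only [c2]) <;> (try ring_nf))) hm'
        exact add_eq_zero2 (sq_eq_zero2 this)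
      subst hp
      have hr : r = 0 := by
        linear_combination (norm := (ring_nf <;> (try simp only [c2]) <;> (try ring_nf))) kx
      subst hr
      apply hm1
      rw [mk2_one]
    · apply irr_hom hirr (p + 1) q hq
      linear_combination (norm := (ring_nf <;> (try simp only [c2]) <;> (try ring_nf))) q * kx + hm'
  · have hτ' : ((mk2 p q r s hm : Matrix.SpecialLinearGroup (Fin 2) F) :
        Matrix (Fin 2) (Fin 2) F) 0 0 + ((mk2 p q r s hm : Matrix.SpecialLinearGroup (Fin 2) F) :
        Matrix (Fin 2) (Fin 2) F) 1 1 ≠ 0 := by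
      simpa using hτ
    have hrs : r = q ∧ s = p + t * q := by
      rcases conj_eq_or_inv _ _ hτ' hcx with e | e
      · have e' := mul_inv_eq_iff_eq_mul.1 e
        simp only [mk2_mul, mk2_inj] at e'
        obtain ⟨e1, e2, e3, e4⟩ := e'
        constructor
        · linear_combination e1
        · linear_combination e2
      · exfalso
        have e' := mul_inv_eq_iff_eq_mul.1 e
        simp only [mk2_mul, mk2_inv, mk2_inj] at e'
        obtain ⟨e1, e2, e3, e4⟩ := e'
        have hq : q = 0 := by
          have : t * q = 0 := by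
            linear_combination (norm := (ring_nf <;> (try simp only [c2]) <;> (try ring_nf))) e2
          rcases mul_eq_zero.1 this with h0 | h0
          · exact absurd h0 ht
          · exact h0
        subst hq
        have hr : r = 0 := by
          linear_combination (norm := (ring_nf <;> (try simp only [c2]) <;> (try ring_nf))) e1
        subst hr
        have : t * (p + s) = 0 := by
          linear_combination (norm := (ring_nf <;> (try simp only [c2]) <;> (try ring_nf))) e4
        rcases mul_eq_zero.1 this with h0 | h0
        · exact ht h0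
        · exact hτ h0
    obtain ⟨rfl, rfl⟩ := hrs
    have hq : r ≠ 0 := by
      rintro rfl
      apply hτ
      linear_combination (norm := (ring_nf <;> (try simp only [c2]) <;> (try ring_nf)))
    rcases conj_eq_or_inv _ _ hτ' hcy with e | e
    · left
      have e' := mul_inv_eq_iff_eq_mul.1 e
      simp only [mk2_mul, mk2_inj] at e'
      obtain ⟨e1, e2, e3, e4⟩ := e'
      constructor
      · have : r * (c + b) = 0 := by
          linear_combination (norm := (ring_nf <;> (try simp only [c2]) <;> (try ring_nf))) e1
        rcases mul_eq_zero.1 this with h0 | h0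
        · exact absurd h0 hq
        · exact add_eq_zero2 h0
      · have : r * (d + (a + t * b)) = 0 := by
          linear_combination (norm := (ring_nf <;> (try simp only [c2]) <;> (try ring_nf))) e2
        rcases mul_eq_zero.1 this with h0 | h0
        · exact absurd h0 hq
        · exact add_eq_zero2 h0
    · right
      have e' := mul_inv_eq_iff_eq_mul.1 e
      simp only [mk2_mul, mk2_inv, mk2_inj] at e'
      obtain ⟨e1, e2, e3, e4⟩ := e'
      constructor
      · have : r * (c + (b + t * a)) = 0 := by
          linear_combination (norm := (ring_nf <;> (try simp only [c2]) <;> (try ring_nf))) e1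
        rcases mul_eq_zero.1 this with h0 | h0
        · exact absurd h0 hq
        · exact add_eq_zero2 h0
      · have : r * (d + a) = 0 := by
          linear_combination (norm := (ring_nf <;> (try simp only [c2]) <;> (try ring_nf))) e2
        rcases mul_eq_zero.1 this with h0 | h0
        · exact absurd h0 hq
        · exact add_eq_zero2 h0

theorem nonsplit_solv_iff {t : F} (hirr : ∀ z : F, z * z + t * z + 1 ≠ 0) {a b c d : F}
    (h : a * d - b * c = 1) :
    Group.IsSolvable ↥(closure ({mk2 0 1 1 t (comp_det t), mk2 a b c d h} :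
      Set (Matrix.SpecialLinearGroup (Fin 2) F))) ↔
      ((c = b ∧ d = a + t * b) ∨ (c = b + t * a ∧ d = a)) :=
  ⟨nonsplit_solv_only hirr h, nonsplit_solv_of t h⟩

end Cfsg.Agent.Lib.Helper5.PSL2Solv
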