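import Mathlib
import Cfsg.Agent.Lib.Helper5.PSL2Solv.NonSplit

set_option autoImplicit false
set_option linter.unusedSimpArgs false
set_option linter.unnecessarySeqFocus false
set_option linter.unreachableTactic false

namespace Cfsg.Agent.Lib.Helper5.PSL2Solv

open Matrix Subgroup

variable {F : Type*} [Field F] [CharP F 2]

/-- Square roots exist in a finite field of characteristic two. -/
theorem exists_sqrt2 [Finite F] (ν : F) : ∃ s : F, s * s = ν := by
  have hinj : Function.Injective (frobenius F 2) := frobenius_inj F 2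
  have hsurj : Function.Surjective (frobenius F 2) := Finite.surjective_of_injective hinj
  obtain ⟨s, hs⟩ := hsurj ν
  refine ⟨s, ?_⟩
  rw [← hs, frobenius_def, sq]

theorem sq_inj2 {s s' : F} (h : s * s = s' * s') : s = s' := by
  have : (s + s') * (s + s') = 0 := by
    linear_combination (norm := (ring_nf <;> (try simp only [c2]) <;> (try ring_nf))) h
  exact add_eq_zero2 (sq_eq_zero2 this)

/-- The norm form of the quadratic algebra `F[x]/(x² + t x + 1)`. -/
def nrm (t : F) (z : F × F) : F := z.1 * z.1 + t * z.1 * z.2 + z.2 * z.2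

omit [CharP F 2] in
theorem nrm_ne_zero {t : F} (hirr : ∀ z : F, z * z + t * z + 1 ≠ 0) {z : F × F} (hz : z ≠ 0) :
    nrm t z ≠ 0 := by
  obtain ⟨a, b⟩ := z
  by_cases hb : b = 0
  · subst hb
    have ha : a ≠ 0 := by
      rintro rfl
      exact hz rfl
    simp only [nrm, mul_zero, add_zero]
    exact mul_ne_zero ha ha
  · exact irr_hom hirr a b hb

/-- Scaling map used to count norm-one elements. -/
def scaleMap (t : F) (w : Fˣ × {z : F × F // nrm t z = 1}) : {z : F × F // z ≠ 0} :=
  ⟨((w.1 : F) * w.2.1.1, (w.1 : F) * w.2.1.2), by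
    intro h
    have h1 : (w.1 : F) * w.2.1.1 = 0 := congrArg Prod.fst h
    have h2 : (w.1 : F) * w.2.1.2 = 0 := congrArg Prod.snd h
    have h1' : w.2.1.1 = 0 := (mul_eq_zero.1 h1).resolve_left (Units.ne_zero w.1)
    have h2' : w.2.1.2 = 0 := (mul_eq_zero.1 h2).resolve_left (Units.ne_zero w.1)
    have := w.2.2
    simp only [nrm, h1', h2', mul_zero, add_zero] at this
    exact zero_ne_one this⟩

theorem scaleMap_bij [Finite F] {t : F} (hirr : ∀ z : F, z * z + t * z + 1 ≠ 0) :
    Function.Bijective (scaleMap t) := by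
  constructor
  · rintro ⟨s, ⟨⟨a, b⟩, hab⟩⟩ ⟨s', ⟨⟨a', b'⟩, hab'⟩⟩ h
    have h' := congrArg Subtype.val h
    simp only [scaleMap, Prod.mk.injEq] at h'
    obtain ⟨h1, h2⟩ := h'
    simp only [nrm] at hab hab'
    have hs : (s : F) = (s' : F) := by
      apply sq_inj2
      have e1 : (s : F) * s = (s * a) * (s * a) + t * (s * a) * (s * b) + (s * b) * (s * b) := by
        linear_combination (-(s : F) * s) * hab
      have e2 : (s' : F) * s' = (s' * a') * (s' * a') + t * (s' * a') * (s' * b') +
          (s' * b') * (s' * b') := by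
        linear_combination (-(s' : F) * s') * hab'
      rw [e1, e2, h1, h2]
    have hs' : s = s' := Units.ext hs
    subst hs'
    have ha : a = a' := mul_left_cancel₀ (Units.ne_zero s) h1
    have hb : b = b' := mul_left_cancel₀ (Units.ne_zero s) h2
    subst ha hb
    rfl
  · rintro ⟨⟨a, b⟩, hz⟩
    have hν := nrm_ne_zero hirr hz
    obtain ⟨s, hs⟩ := exists_sqrt2 (nrm t (a, b))
    have hs0 : s ≠ 0 := by
      rintro rfl
      rw [mul_zero] at hs
      exact hν hs.symm
    refine ⟨⟨Units.mk0 s hs0, ⟨(a / s, b / s), ?_⟩⟩, ?_⟩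
    · simp only [nrm] at hs ⊢
      field_simp
      linear_combination (-1 : F) * hs
    · apply Subtype.ext
      simp only [scaleMap, Units.val_mk0]
      rw [mul_div_cancel₀ _ hs0, mul_div_cancel₀ _ hs0]

theorem nrm_one_card [Fintype F] {t : F} (hirr : ∀ z : F, z * z + t * z + 1 ≠ 0) :
    Nat.card {z : F × F // nrm t z = 1} = Fintype.card F + 1 := by
  classical
  have h1 := Nat.card_congr (Equiv.ofBijective _ (scaleMap_bij hirr))
  rw [Nat.card_prod] at h1
  have h2 : Nat.card {z : F × F // z ≠ 0} = Fintype.card F * Fintype.card F - 1 := by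
    rw [Nat.card_eq_fintype_card, Fintype.card_subtype_compl, Fintype.card_prod]
    simp
  have h3 : Nat.card Fˣ = Fintype.card F - 1 := by
    rw [Nat.card_eq_fintype_card, Fintype.card_units]
  rw [h2, h3] at h1
  obtain ⟨n, hn⟩ : ∃ n, Fintype.card F = n + 2 := by
    have := Fintype.one_lt_card (α := F)
    exact ⟨Fintype.card F - 2, by omega⟩
  rw [hn] at h1 ⊢
  have h4 : (n + 2) * (n + 2) - 1 = (n + 1) * (n + 3) := by
    have : (n + 2) * (n + 2) = (n + 1) * (n + 3) + 1 := by ring
    omega
  have h5 : n + 2 - 1 = n + 1 := by omega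
  rw [h4, h5] at h1
  exact Nat.eq_of_mul_eq_mul_left (Nat.succ_pos n) h1

end Cfsg.Agent.Lib.Helper5.PSL2Solv
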