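import Mathlib
import Cfsg.Agent.Lib.Helper5.PSL2Solv.NonSplitCount

set_option autoImplicit false
set_option linter.unusedSimpArgs false
set_option linter.unnecessarySeqFocus false
set_option linter.unreachableTactic false

namespace Cfsg.Agent.Lib.Helper5.PSL2Solv

open Matrix Subgroup

variable {F : Type*} [Field F] [CharP F 2]

/-- Elements commuting with the companion matrix. -/
def famComm (t : F) (z : {z : F × F // nrm t z = 1}) : Matrix.SpecialLinearGroup (Fin 2) F :=
  mk2 z.1.1 z.1.2 z.1.2 (z.1.1 + t * z.1.2) (by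
    have := z.2
    simp only [nrm] at this
    linear_combination (norm := (ring_nf <;> (try simp only [c2]) <;> (try ring_nf))) this)

/-- Elements inverting the companion matrix. -/
def famInv (t : F) (z : {z : F × F // nrm t z = 1}) : Matrix.SpecialLinearGroup (Fin 2) F :=
  mk2 z.1.1 z.1.2 (z.1.2 + t * z.1.1) z.1.1 (by
    have := z.2
    simp only [nrm] at this
    linear_combination (norm := (ring_nf <;> (try simp only [c2]) <;> (try ring_nf))) this)

theorem famComm_inj (t : F) : Function.Injective (famComm t) := by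
  rintro ⟨⟨a, b⟩, h⟩ ⟨⟨a', b'⟩, h'⟩ e
  simp only [famComm, mk2_inj] at e
  obtain ⟨e1, e2, -, -⟩ := e
  subst e1 e2
  rfl

theorem famInv_inj (t : F) : Function.Injective (famInv t) := by
  rintro ⟨⟨a, b⟩, h⟩ ⟨⟨a', b'⟩, h'⟩ e
  simp only [famInv, mk2_inj] at e
  obtain ⟨e1, e2, -, -⟩ := e
  subst e1 e2
  rfl

theorem nonsplit_solv_set {t : F} (hirr : ∀ z : F, z * z + t * z + 1 ≠ 0) :
    {y : Matrix.SpecialLinearGroup (Fin 2) F | Group.IsSolvable
      ↥(closure ({mk2 0 1 1 t (comp_det t), y} : Set (Matrix.SpecialLinearGroup (Fin 2) F)))} =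
    Set.range (famComm t) ∪ Set.range (famInv t) := by
  ext y
  obtain ⟨a, b, c, d, h, rfl⟩ := exists_mk2 y
  rw [Set.mem_ofPred_eq, nonsplit_solv_iff hirr]
  simp only [Set.mem_union, Set.mem_range]
  constructor
  · rintro (⟨hc, hd⟩ | ⟨hc, hd⟩)
    · left
      subst hc hd
      have hn : nrm t (a, c) = 1 := by
        simp only [nrm]
        linear_combination (norm := (ring_nf <;> (try simp only [c2]) <;> (try ring_nf))) h
      exact ⟨⟨(a, c), hn⟩, rfl⟩
    · right
      subst hc hd
      have hn : nrm t (d, b) = 1 := by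
        simp only [nrm]
        linear_combination (norm := (ring_nf <;> (try simp only [c2]) <;> (try ring_nf))) h
      exact ⟨⟨(d, b), hn⟩, rfl⟩
  · rintro (⟨⟨⟨a', b'⟩, h'⟩, e⟩ | ⟨⟨⟨a', b'⟩, h'⟩, e⟩)
    · simp only [famComm, mk2_inj] at e
      obtain ⟨e1, e2, e3, e4⟩ := e
      left
      subst e1 e2
      exact ⟨e3.symm, e4.symm⟩
    · simp only [famInv, mk2_inj] at e
      obtain ⟨e1, e2, e3, e4⟩ := e
      right
      subst e1 e2
      exact ⟨e3.symm, e4.symm⟩

theorem nonsplit_count [Fintype F] {t : F} (hirr : ∀ z : F, z * z + t * z + 1 ≠ 0) :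
    Nat.card {y : Matrix.SpecialLinearGroup (Fin 2) F // Group.IsSolvable
      ↥(closure ({mk2 0 1 1 t (comp_det t), y} : Set (Matrix.SpecialLinearGroup (Fin 2) F)))} =
    2 * (Fintype.card F + 1) := by
  classical
  have h0 : Nat.card {y : Matrix.SpecialLinearGroup (Fin 2) F // Group.IsSolvable
      ↥(closure ({mk2 0 1 1 t (comp_det t), y} : Set (Matrix.SpecialLinearGroup (Fin 2) F)))} =
      ({y : Matrix.SpecialLinearGroup (Fin 2) F | Group.IsSolvable
      ↥(closure ({mk2 0 1 1 t (comp_det t), y} :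
      Set (Matrix.SpecialLinearGroup (Fin 2) F)))}).ncard := Nat.card_coe_set_eq _
  rw [h0, nonsplit_solv_set hirr, Set.ncard_union_eq _ (Set.toFinite _) (Set.toFinite _),
    ncard_range_inj _ (famComm_inj t), ncard_range_inj _ (famInv_inj t), nrm_one_card hirr]
  · ring
  · rw [Set.disjoint_left]
    rintro y ⟨⟨⟨a, b⟩, h⟩, rfl⟩ ⟨⟨⟨a', b'⟩, h'⟩, e⟩
    simp only [famComm, famInv, mk2_inj] at e
    obtain ⟨e1, e2, e3, e4⟩ := e
    subst e1 e2
    have ht := irr_t_ne hirr
    have ha : a' = 0 := by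
      have : t * a' = 0 := by linear_combination e3
      exact (mul_eq_zero.1 this).resolve_left ht
    subst ha
    have hb : b' = 0 := by
      have : t * b' = 0 := by linear_combination (-1 : F) * e4
      exact (mul_eq_zero.1 this).resolve_left ht
    subst hb
    simp only [nrm, mul_zero, add_zero] at h
    exact zero_ne_one h

end Cfsg.Agent.Lib.Helper5.PSL2Solv
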