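import Mathlib
import Cfsg.Agent.Lib.Helper5.PSL2Solv.NonSplitCount2

set_option autoImplicit false
set_option linter.unusedSimpArgs false
set_option linter.unnecessarySeqFocus false
set_option linter.unreachableTactic false

namespace Cfsg.Agent.Lib.Helper5.PSL2Solv

open Matrix Subgroup Polynomial

variable {F : Type*} [Field F]

/-- A matrix over a finite field with `M ^ q = M` has an eigenvalue in the field. -/
theorem exists_eigenvalue [Fintype F] (M : Matrix (Fin 2) (Fin 2) F)
    (hM : M ^ Fintype.card F = M) : ∃ l : F, (M.charpoly).eval l = 0 := by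
  classical
  have hp : aeval M (X ^ Fintype.card F - X : F[X]) = 0 := by
    rw [map_sub, map_pow, aeval_X, hM, sub_self]
  have hdvd := minpoly.dvd F M hp
  have hsp : Splits (X ^ Fintype.card F - X : F[X]) := by
    rw [splits_iff_card_roots, FiniteField.roots_X_pow_card_sub_X,
      FiniteField.X_pow_card_sub_X_natDegree_eq F Fintype.one_lt_card]
    simp [Finset.card_univ]
  have hne : (X ^ Fintype.card F - X : F[X]) ≠ 0 :=
    FiniteField.X_pow_card_sub_X_ne_zero F Fintype.one_lt_card
  have hms := Splits.of_dvd hsp hne hdvd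
  have hint : IsIntegral F M := Algebra.IsIntegral.isIntegral M
  have hdeg : (minpoly F M).degree ≠ 0 := (minpoly.degree_pos hint).ne'
  obtain ⟨l, hl⟩ := hms.exists_eval_eq_zero hdeg
  obtain ⟨g, hg⟩ := Matrix.minpoly_dvd_charpoly M
  exact ⟨l, by rw [hg, eval_mul, hl, zero_mul]⟩

theorem charpoly_mk2_eval (a b c d : F) (h : a * d - b * c = 1) (l : F) :
    ((mk2 a b c d h : Matrix.SpecialLinearGroup (Fin 2) F) :
      Matrix (Fin 2) (Fin 2) F).charpoly.eval l = l * l - (a + d) * l + 1 := by
  rw [Matrix.charpoly_fin_two]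
  have hdet : ((mk2 a b c d h : Matrix.SpecialLinearGroup (Fin 2) F) :
      Matrix (Fin 2) (Fin 2) F).det = 1 := (mk2 a b c d h).det_coe
  have htr : ((mk2 a b c d h : Matrix.SpecialLinearGroup (Fin 2) F) :
      Matrix (Fin 2) (Fin 2) F).trace = a + d := by
    rw [Matrix.trace_fin_two]; rfl
  rw [hdet, htr]
  simp only [eval_add, eval_sub, eval_pow, eval_X, eval_mul, eval_C, map_one, eval_one]
  ring

theorem diag_pow (l u : F) (h : l * u - 0 * 0 = 1) (n : ℕ) :
    (mk2 l 0 0 u h) ^ n = mk2 (l ^ n) 0 0 (u ^ n) (by
      have : l * u = 1 := by linear_combination h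
      rw [mul_zero, sub_zero, ← mul_pow, this, one_pow]) := by
  induction n with
  | zero => rw [pow_zero, mk2_one, mk2_inj]; simp
  | succ n ih =>
    rw [pow_succ, ih, mk2_mul, mk2_inj]
    refine ⟨?_, ?_, ?_, ?_⟩ <;> ring

section char2

variable [CharP F 2]

/-- An element with `x² = 1` and odd exponent relation is trivial. -/
theorem eq_one_of_sq_of_odd {G : Type*} [Group G] (x : G) (h2 : x * x = 1) (n : ℕ) (hn : Odd n)
    (hx : x ^ n = 1) : x = 1 := by
  obtain ⟨k, rfl⟩ := hn
  rw [pow_succ, pow_mul, sq, h2, one_pow, one_mul] at hx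
  exact hx

theorem sq_eq_one_of_trace_zero (a b c : F) (h : a * a - b * c = 1) :
    mk2 a b c a h * mk2 a b c a h = 1 := by
  rw [mk2_mul, mk2_one, mk2_inj]
  refine ⟨?_, ?_, ?_, ?_⟩
  · linear_combination (norm := (ring_nf <;> (try simp only [c2]) <;> (try ring_nf))) h
  · linear_combination (norm := (ring_nf <;> (try simp only [c2]) <;> (try ring_nf)))
  · linear_combination (norm := (ring_nf <;> (try simp only [c2]) <;> (try ring_nf)))
  · linear_combination (norm := (ring_nf <;> (try simp only [c2]) <;> (try ring_nf))) h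

/-- Diagonalization from an eigenvalue when the trace is nonzero. -/
theorem diag_of_root {a b c d : F} (h : a * d - b * c = 1) (hτ : a + d ≠ 0) {l : F}
    (hl : l * l + (a + d) * l + 1 = 0) :
    ∃ (g : Matrix.SpecialLinearGroup (Fin 2) F) (l u : F) (hlu : l * u - 0 * 0 = 1), l ≠ u ∧
      mk2 a b c d h * g = g * mk2 l 0 0 u hlu := by
  by_cases hb : b = 0
  · subst hb
    have had : a * d - 0 * 0 = 1 := by linear_combination h
    have hne : a ≠ d := fun e => hτ (by rw [e]; exact CharTwo.add_self_eq_zero d)
    refine ⟨mk2 (a + d) 0 c ((a + d)⁻¹) (by rw [mul_inv_cancel₀ hτ]; ring), a, d, had, hne, ?_⟩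
    rw [mk2_mul, mk2_mul, mk2_inj]
    refine ⟨by ring, by ring, ?_, by ring⟩
    linear_combination (norm := (ring_nf <;> (try simp only [c2]) <;> (try ring_nf)))
  · set u := l + (a + d) with hu
    have hlu : l * u - 0 * 0 = 1 := by
      rw [hu]
      linear_combination (norm := (ring_nf <;> (try simp only [c2]) <;> (try ring_nf))) hl
    have hne : l ≠ u := by
      intro e
      apply hτ
      have : l + u = 0 := by rw [← e]; exact CharTwo.add_self_eq_zero l
      rw [hu] at this
      linear_combination (norm := (ring_nf <;> (try simp only [c2]) <;> (try ring_nf))) this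
    have hδ : b * (a + d) ≠ 0 := mul_ne_zero hb hτ
    refine ⟨mk2 b (b / (b * (a + d))) (l + a) ((u + a) / (b * (a + d))) ?_, l, u, hlu, hne, ?_⟩
    · rw [hu]
      field_simp
      linear_combination (norm := (ring_nf <;> (try simp only [c2]) <;> (try ring_nf)))
    · rw [mk2_mul, mk2_mul, mk2_inj]
      have hu2 : u * u + (a + d) * u + 1 = 0 := by
        rw [hu]
        linear_combination (norm := (ring_nf <;> (try simp only [c2]) <;> (try ring_nf))) hl
      refine ⟨?_, ?_, ?_, ?_⟩
      · linear_combination (norm := (ring_nf <;> (try simp only [c2]) <;> (try ring_nf)))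
      · field_simp
        linear_combination (norm := (ring_nf <;> (try simp only [c2]) <;> (try ring_nf)))
      · linear_combination (norm := (ring_nf <;> (try simp only [c2]) <;> (try ring_nf))) hl + h
      · field_simp
        linear_combination (norm := (ring_nf <;> (try simp only [c2]) <;> (try ring_nf))) hu2 + h

end char2

end Cfsg.Agent.Lib.Helper5.PSL2Solv
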