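import Mathlib
import Cfsg.Agent.Lib.Helper5.PSL2Solv.Norm

set_option autoImplicit false
set_option linter.unusedSimpArgs false
set_option linter.unnecessarySeqFocus false
set_option linter.unreachableTactic false

namespace Cfsg.Agent.Lib.Helper5.PSL2Solv

open Matrix Subgroup Polynomial

variable {F : Type*} [Field F] [CharP F 2]

/-- An involution of `SL₂` in characteristic two is conjugate to the standard transvection. -/
theorem invol_normal_form [Finite F] (x : Matrix.SpecialLinearGroup (Fin 2) F) (hx1 : x ≠ 1)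
    (hx2 : x * x = 1) : ∃ g : Matrix.SpecialLinearGroup (Fin 2) F, x * g = g * uOne F := by
  obtain ⟨a, b, c, d, h, rfl⟩ := exists_mk2 x
  have e := hx2
  rw [mk2_mul, mk2_one, mk2_inj] at e
  obtain ⟨e1, e2, e3, e4⟩ := e
  have hτ : a + d = 0 := by
    by_contra hτ
    have hb : b = 0 := by
      have : (a + d) * b = 0 := by linear_combination e2
      exact (mul_eq_zero.1 this).resolve_left hτ
    have hc : c = 0 := by
      have : (a + d) * c = 0 := by linear_combination e3
      exact (mul_eq_zero.1 this).resolve_left hτ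
    subst hb hc
    have ha : a = 1 := by
      have : (a + 1) * (a + 1) = 0 := by
        linear_combination (norm := (ring_nf <;> (try simp only [c2]) <;> (try ring_nf))) e1
      exact add_eq_zero2 (sq_eq_zero2 this)
    have hd : d = 1 := by
      have : (d + 1) * (d + 1) = 0 := by
        linear_combination (norm := (ring_nf <;> (try simp only [c2]) <;> (try ring_nf))) e4
      exact add_eq_zero2 (sq_eq_zero2 this)
    apply hτ
    rw [ha, hd]
    exact CharTwo.add_self_eq_zero 1
  obtain rfl := diag_eq_of_trace_zero hτ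
  by_cases hc : c = 0
  · subst hc
    have ha : a = 1 := by
      have : (a + 1) * (a + 1) = 0 := by
        linear_combination (norm := (ring_nf <;> (try simp only [c2]) <;> (try ring_nf))) e1
      exact add_eq_zero2 (sq_eq_zero2 this)
    subst ha
    have hb : b ≠ 0 := by
      rintro rfl
      apply hx1
      rw [mk2_one]
    obtain ⟨s, hs⟩ := exists_sqrt2 b⁻¹
    refine ⟨mk2 (s * b) 0 0 s ?_, ?_⟩
    · have : s * s * b = 1 := by rw [hs, inv_mul_cancel₀ hb]
      linear_combination this
    · rw [uOne, mk2_mul, mk2_mul, mk2_inj]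
      refine ⟨by ring, by ring, by ring, by ring⟩
  · obtain ⟨s, hs⟩ := exists_sqrt2 c⁻¹
    have hsc : s * s * c = 1 := by rw [hs, inv_mul_cancel₀ hc]
    refine ⟨mk2 (s * (a + 1)) s (s * c) 0 ?_, ?_⟩
    · linear_combination (norm := (ring_nf <;> (try simp only [c2]) <;> (try ring_nf))) hsc
    · rw [uOne, mk2_mul, mk2_mul, mk2_inj]
      refine ⟨?_, ?_, ?_, ?_⟩
      · linear_combination (norm := (ring_nf <;> (try simp only [c2]) <;> (try ring_nf))) s * e1
      · linear_combination (norm := (ring_nf <;> (try simp only [c2]) <;> (try ring_nf)))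
      · linear_combination (norm := (ring_nf <;> (try simp only [c2]) <;> (try ring_nf)))
      · linear_combination (norm := (ring_nf <;> (try simp only [c2]) <;> (try ring_nf)))

theorem trace_ne_zero_of_odd_pow {a b c d : F} (h : a * d - b * c = 1)
    (hx1 : mk2 a b c d h ≠ 1) (n : ℕ) (hn : Odd n) (hx : mk2 a b c d h ^ n = 1) : a + d ≠ 0 := by
  intro hτ
  obtain rfl := diag_eq_of_trace_zero hτ
  exact hx1 (eq_one_of_sq_of_odd _ (sq_eq_one_of_trace_zero a b c h) n hn hx)

/-- A nontrivial element of order dividing `q - 1` is diagonalizable. -/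
theorem split_normal_form [Fintype F] (hq : Even (Fintype.card F))
    (x : Matrix.SpecialLinearGroup (Fin 2) F) (hx1 : x ≠ 1) (hx : x ^ (Fintype.card F - 1) = 1) :
    ∃ (g : Matrix.SpecialLinearGroup (Fin 2) F) (l u : F) (hlu : l * u - 0 * 0 = 1), l ≠ u ∧
      x * g = g * mk2 l 0 0 u hlu := by
  obtain ⟨a, b, c, d, h, rfl⟩ := exists_mk2 x
  have hpos : 0 < Fintype.card F := Fintype.card_pos
  have hodd : Odd (Fintype.card F - 1) := by
    obtain ⟨k, hk⟩ := hq
    exact ⟨k - 1, by omega⟩
  have hτ := trace_ne_zero_of_odd_pow h hx1 _ hodd hx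
  have hM : ((mk2 a b c d h : Matrix.SpecialLinearGroup (Fin 2) F) :
      Matrix (Fin 2) (Fin 2) F) ^ Fintype.card F = (mk2 a b c d h :
      Matrix.SpecialLinearGroup (Fin 2) F) := by
    rw [← Matrix.SpecialLinearGroup.coe_pow]
    congr 1
    have : Fintype.card F = (Fintype.card F - 1) + 1 := by omega
    rw [this, pow_succ, hx, one_mul]
  obtain ⟨l, hl⟩ := exists_eigenvalue _ hM
  rw [charpoly_mk2_eval] at hl
  apply diag_of_root h hτ (l := l)
  linear_combination (norm := (ring_nf <;> (try simp only [c2]) <;> (try ring_nf))) hl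

/-- A nontrivial element of order dividing `q + 1` is conjugate to a companion matrix with
irreducible characteristic polynomial. -/
theorem nonsplit_normal_form [Fintype F] (hq : Even (Fintype.card F))
    (x : Matrix.SpecialLinearGroup (Fin 2) F) (hx1 : x ≠ 1) (hx : x ^ (Fintype.card F + 1) = 1) :
    ∃ (g : Matrix.SpecialLinearGroup (Fin 2) F) (t : F), (∀ z : F, z * z + t * z + 1 ≠ 0) ∧
      x * g = g * mk2 0 1 1 t (comp_det t) := by
  obtain ⟨a, b, c, d, h, rfl⟩ := exists_mk2 x
  have hodd : Odd (Fintype.card F + 1) := by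
    obtain ⟨k, hk⟩ := hq
    exact ⟨k, by omega⟩
  have hτ := trace_ne_zero_of_odd_pow h hx1 _ hodd hx
  have hirr : ∀ z : F, z * z + (a + d) * z + 1 ≠ 0 := by
    intro z hz
    obtain ⟨g, l, u, hlu, hne, e⟩ := diag_of_root h hτ hz
    have e1 : mk2 a b c d h = g * mk2 l 0 0 u hlu * g⁻¹ := by rw [← e]; group
    rw [e1, conj_pow, diag_pow] at hx
    have e2 := mul_inv_eq_one.1 hx
    have e3 : mk2 (l ^ (Fintype.card F + 1)) 0 0 (u ^ (Fintype.card F + 1)) (by
        have : l * u = 1 := by linear_combination hlu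
        rw [mul_zero, sub_zero, ← mul_pow, this, one_pow]) = 1 := by
      have : g * mk2 (l ^ (Fintype.card F + 1)) 0 0 (u ^ (Fintype.card F + 1)) (by
        have : l * u = 1 := by linear_combination hlu
        rw [mul_zero, sub_zero, ← mul_pow, this, one_pow]) = g * 1 := by rw [e2, mul_one]
      exact mul_left_cancel this
    rw [mk2_one, mk2_inj] at e3
    obtain ⟨el, -, -, eu⟩ := e3
    rw [pow_succ, FiniteField.pow_card] at el eu
    have hl1 : l = 1 := by
      have : (l + 1) * (l + 1) = 0 := by
        linear_combination (norm := (ring_nf <;> (try simp only [c2]) <;> (try ring_nf))) el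
      exact add_eq_zero2 (sq_eq_zero2 this)
    have hu1 : u = 1 := by
      have : (u + 1) * (u + 1) = 0 := by
        linear_combination (norm := (ring_nf <;> (try simp only [c2]) <;> (try ring_nf))) eu
      exact add_eq_zero2 (sq_eq_zero2 this)
    exact hne (hl1.trans hu1.symm)
  have hc : c ≠ 0 := by
    rintro rfl
    apply hirr a
    linear_combination (norm := (ring_nf <;> (try simp only [c2]) <;> (try ring_nf))) h
  obtain ⟨s, hs⟩ := exists_sqrt2 c⁻¹
  have hsc : s * s * c = 1 := by rw [hs, inv_mul_cancel₀ hc]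
  refine ⟨mk2 s (s * a) 0 (s * c) (by linear_combination hsc), a + d, hirr, ?_⟩
  rw [mk2_mul, mk2_mul, mk2_inj]
  refine ⟨?_, ?_, ?_, ?_⟩
  · linear_combination (norm := (ring_nf <;> (try simp only [c2]) <;> (try ring_nf)))
  · linear_combination (norm := (ring_nf <;> (try simp only [c2]) <;> (try ring_nf))) s * h
  · linear_combination (norm := (ring_nf <;> (try simp only [c2]) <;> (try ring_nf)))
  · linear_combination (norm := (ring_nf <;> (try simp only [c2]) <;> (try ring_nf)))

/-- The solubilizer count only depends on the conjugacy class. -/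
theorem conj_count {G : Type*} [Group G] (x x₀ g : G) (e : x * g = g * x₀) :
    Nat.card {y : G // Group.IsSolvable ↥(closure ({x, y} : Set G))} =
      Nat.card {y : G // Group.IsSolvable ↥(closure ({x₀, y} : Set G))} := by
  have h := card_solv_congr (MulAut.conj g⁻¹) x
  have e' : (MulAut.conj g⁻¹) x = x₀ := by
    rw [MulAut.conj_apply, inv_inv, mul_assoc, e, ← mul_assoc, inv_mul_cancel, one_mul]
  rw [e'] at h
  exact h

theorem count_invol [Fintype F] (x : Matrix.SpecialLinearGroup (Fin 2) F) (hx1 : x ≠ 1)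
    (hx2 : x * x = 1) :
    Nat.card {y : Matrix.SpecialLinearGroup (Fin 2) F // Group.IsSolvable
      ↥(closure ({x, y} : Set (Matrix.SpecialLinearGroup (Fin 2) F)))} =
    3 * Fintype.card F * (Fintype.card F - 1) := by
  obtain ⟨g, e⟩ := invol_normal_form x hx1 hx2
  rw [conj_count x (uOne F) g e, invol_count]

theorem count_split [Fintype F] (hq : Even (Fintype.card F))
    (x : Matrix.SpecialLinearGroup (Fin 2) F) (hx1 : x ≠ 1) (hx : x ^ (Fintype.card F - 1) = 1) :
    Nat.card {y : Matrix.SpecialLinearGroup (Fin 2) F // Group.IsSolvable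
      ↥(closure ({x, y} : Set (Matrix.SpecialLinearGroup (Fin 2) F)))} =
    2 * Fintype.card F * (Fintype.card F - 1) := by
  obtain ⟨g, l, u, hlu, hne, e⟩ := split_normal_form hq x hx1 hx
  rw [conj_count x _ g e, split_count hlu hne]

theorem count_nonsplit [Fintype F] (hq : Even (Fintype.card F))
    (x : Matrix.SpecialLinearGroup (Fin 2) F) (hx1 : x ≠ 1) (hx : x ^ (Fintype.card F + 1) = 1) :
    Nat.card {y : Matrix.SpecialLinearGroup (Fin 2) F // Group.IsSolvable
      ↥(closure ({x, y} : Set (Matrix.SpecialLinearGroup (Fin 2) F)))} =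
    2 * (Fintype.card F + 1) := by
  obtain ⟨g, t, hirr, e⟩ := nonsplit_normal_form hq x hx1 hx
  rw [conj_count x _ g e, nonsplit_count hirr]

end Cfsg.Agent.Lib.Helper5.PSL2Solv
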