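import Mathlib
import Cfsg.Agent.Lib.Helper5.PSL2Solv.Norm2

set_option autoImplicit false
set_option linter.unusedSimpArgs false
set_option linter.unnecessarySeqFocus false
set_option linter.unreachableTactic false

namespace Cfsg.Agent.Lib.Helper5.PSL2Solv

open Matrix Subgroup

/-- A finite field with `2 ^ p` elements (`p ≥ 1`) has characteristic two. -/
theorem charP_two_of_card {F : Type*} [Field F] [Fintype F] {p : ℕ}
    (hF : Fintype.card F = 2 ^ p) : CharP F 2 := by
  obtain ⟨r, hr⟩ := CharP.exists F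
  have := hr
  obtain ⟨n, hrp, hcard⟩ := FiniteField.card F r
  have hdvd : r ∣ 2 ^ p := by
    rw [← hF, hcard]
    exact dvd_pow_self r n.ne_zero
  have hr2 : r = 2 := by
    have := hrp.dvd_of_dvd_pow hdvd
    exact (Nat.prime_dvd_prime_iff_eq hrp Nat.prime_two).1 this
  subst hr2
  exact hr

variable {F : Type*} [Field F] [CharP F 2]

theorem center_eq_bot :
    Subgroup.center (Matrix.SpecialLinearGroup (Fin 2) F) = ⊥ := by
  rw [eq_bot_iff]
  intro g hg
  rw [Matrix.SpecialLinearGroup.mem_center_iff] at hg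
  obtain ⟨r, hr, hg⟩ := hg
  rw [Fintype.card_fin] at hr
  have hr1 : r = 1 := by
    have : (r + 1) * (r + 1) = 0 := by
      linear_combination (norm := (ring_nf <;> (try simp only [c2]) <;> (try ring_nf))) hr
    exact add_eq_zero2 (sq_eq_zero2 this)
  subst hr1
  rw [Subgroup.mem_bot]
  apply Matrix.SpecialLinearGroup.ext
  intro i j
  rw [← hg]
  simp

/-- In characteristic two, `SL₂(F)` is isomorphic to `PSL₂(F)`. -/
noncomputable def slEquivPsl (F : Type*) [Field F] [CharP F 2] :
    Matrix.SpecialLinearGroup (Fin 2) F ≃* Matrix.ProjectiveSpecialLinearGroup (Fin 2) F :=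
  (QuotientGroup.quotientBot (G := Matrix.SpecialLinearGroup (Fin 2) F)).symm.trans
    (QuotientGroup.quotientMulEquivOfEq (center_eq_bot (F := F)).symm)

theorem psl_count_transfer (x : Matrix.ProjectiveSpecialLinearGroup (Fin 2) F) :
    Nat.card {y : Matrix.ProjectiveSpecialLinearGroup (Fin 2) F // Group.IsSolvable
      ↥(closure ({x, y} : Set (Matrix.ProjectiveSpecialLinearGroup (Fin 2) F)))} =
    Nat.card {y : Matrix.SpecialLinearGroup (Fin 2) F // Group.IsSolvable
      ↥(closure ({(slEquivPsl F).symm x, y} : Set (Matrix.SpecialLinearGroup (Fin 2) F)))} := by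
  have h := card_solv_congr (slEquivPsl F) ((slEquivPsl F).symm x)
  rw [MulEquiv.apply_symm_apply] at h
  exact h.symm

end Cfsg.Agent.Lib.Helper5.PSL2Solv
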